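import Groth.Agent.InvX.Tensor
import Groth.Agent.AmpleVan.Mul

/-! # Sections of a twist by a module with a frame -/

universe u

open CategoryTheory AlgebraicGeometry TopologicalSpace Opposite MonoidalCategory
open scoped TensorProduct

set_option backward.isDefEq.respectTransparency false
set_option backward.isDefEq.respectTransparency.types false
set_option linter.style.haveILetI false

namespace Groth.Agent.H44Adj

open Groth.Agent.AModX Groth.Agent.InvX

variable {X : Scheme.{u}} {E N : X.Modules}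

theorem germ_tmul_bijective {U : X.Opens} {e : Γ(N, U)} (he : IsFrame e) {x : X} (hx : x ∈ U) :
    ∃ T : KFlatLib.stalkMod x (CohB1.toPMod E) →
        KFlatLib.stalkMod x (DCoh.toP.obj (CohB1.tensorMod E N)),
      Function.Bijective T ∧ ∀ (W : X.Opens) (h : W ≤ U) (hxW : x ∈ W) (a : Γ(E, W)),
        KFlatLib.germP _ W hxW (tmul a (AModX.res N h e)) = T (KFlatLib.germP (CohB1.toPMod E) W hxW a) := by
  let P := CohB1.toPMod E
  let Q := CohB1.toPMod N
  let ge : KFlatLib.stalkMod x Q := KFlatLib.germP Q U hx e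
  let ee := LinearEquiv.ofBijective (LinearMap.toSpanSingleton (X.presheaf.stalk x) (KFlatLib.stalkMod x Q) ge)
    (he.germ_bijective hx)
  let T := ((TensorProduct.rid (X.presheaf.stalk x) (KFlatLib.stalkMod x P)).symm.trans
    (TensorProduct.congr (LinearEquiv.refl _ _) ee)).trans (KFlatLib.tensorStalkEquiv P Q)
  haveI hi := KFlatLib.isIso_stalk_unitShP (x := x) (P ⊗ Q)
  let u := ((KFlatLib.stalkP x).map (KFlatLib.unitShP (P ⊗ Q)))
  refine ⟨fun c => u.hom (T c), (ConcreteCategory.bijective_of_isIso u).comp T.bijective, fun W h hxW a => ?_⟩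
  have hT : T (KFlatLib.germP P W hxW a) =
      KFlatLib.germP (P ⊗ Q) W hxW (KFlatLib.tm a (AModX.res N h e)) := by
    show KFlatLib.tensorStalkEquiv P Q (TensorProduct.congr (LinearEquiv.refl _ _) ee
      ((TensorProduct.rid (X.presheaf.stalk x) (KFlatLib.stalkMod x P)).symm (KFlatLib.germP P W hxW a))) = _
    rw [TensorProduct.rid_symm_apply, TensorProduct.congr_tmul]
    show KFlatLib.tensorStalkEquiv P Q (KFlatLib.germP P W hxW a ⊗ₜ ((1 : X.presheaf.stalk x) • ge)) = _
    rw [one_smul, show ge = KFlatLib.germP Q W hxW (AModX.res N h e) from (germ_res' h hxW e).symm]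
    exact KFlatLib.ofTensor_germ W hxW a _
  show _ = u.hom (T (KFlatLib.germP P W hxW a))
  rw [hT]
  exact (KFlatLib.stalkModMap_germ _ W hxW _).symm

theorem tmul_frame_injective {U : X.Opens} {e : Γ(N, U)} (he : IsFrame e) {V : X.Opens} (h : V ≤ U) :
    Function.Injective fun a : Γ(E, V) => tmul a (AModX.res N h e) := by
  intro a b hab
  refine TopCat.Presheaf.section_ext (⟨E.presheaf, E.isSheaf⟩ : TopCat.Sheaf AddCommGrpCat.{u} X) _ _ _ fun x hx => ?_
  obtain ⟨T, hT, hTe⟩ := germ_tmul_bijective (E := E) he (h hx)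
  refine hT.1 ?_
  show T (KFlatLib.germP _ V hx a) = T (KFlatLib.germP _ V hx b)
  rw [← hTe V h hx a, ← hTe V h hx b]
  exact congrArg (KFlatLib.germP _ V hx) hab

theorem tmul_frame_surjective {U : X.Opens} {e : Γ(N, U)} (he : IsFrame e) {V : X.Opens} (h : V ≤ U) :
    Function.Surjective fun a : Γ(E, V) => tmul a (AModX.res N h e) := by
  intro z
  have hloc : ∀ p : V, ∃ (W : X.Opens) (hW : W ≤ V) (_ : p.1 ∈ W) (a : Γ(E, W)),
      AModX.res (CohB1.tensorMod E N) hW z = tmul a (AModX.res N (hW.trans h) e) := fun p => by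
    obtain ⟨T, hT, hTe⟩ := germ_tmul_bijective (E := E) he (h p.2)
    obtain ⟨c, hc⟩ := hT.2 (KFlatLib.germP _ V p.2 z)
    obtain ⟨W₁, h₁, a, rfl⟩ := TopCat.Presheaf.exists_germ_eq E.presheaf (x := p.1) c
    let W := W₁ ⊓ V
    have hxW : p.1 ∈ W := ⟨h₁, p.2⟩
    have h3 : (CohB1.tensorMod E N).presheaf.germ W p.1 hxW
        (tmul (AModX.res E (inf_le_left : W ≤ W₁) a) (AModX.res N ((inf_le_right : W ≤ V).trans h) e)) =
        (CohB1.tensorMod E N).presheaf.germ W p.1 hxW (AModX.res (CohB1.tensorMod E N) inf_le_right z) := by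
      rw [germ_res' (inf_le_right : W ≤ V) hxW z]
      refine Eq.trans (hTe W _ hxW _) (Eq.trans ?_ hc)
      exact congrArg T (germ_res' (inf_le_left : W ≤ W₁) hxW a)
    obtain ⟨W', hW', i, j, hij⟩ :=
      TopCat.Presheaf.germ_eq (C := AddCommGrpCat.{u}) (CohB1.tensorMod E N).presheaf p.1 hxW hxW _ _ h3
    change AModX.res (CohB1.tensorMod E N) i.le _ = AModX.res (CohB1.tensorMod E N) j.le _ at hij
    rw [res_tmul, AModX.res_res, AModX.res_res, AModX.res_res] at hij
    exact ⟨W', j.le.trans inf_le_right, hW', _, hij.symm⟩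
  choose W hW hpW a ha using hloc
  obtain ⟨A, hA, -⟩ := AModX.existsUnique_glue (M := E) W hW (fun p hp => ⟨⟨p, hp⟩, hpW _⟩) a fun p q => by
    refine tmul_frame_injective (E := E) he ((inf_le_left : W p ⊓ W q ≤ W p).trans ((hW p).trans h)) ?_
    have h1 := congrArg (AModX.res (CohB1.tensorMod E N) (inf_le_left : W p ⊓ W q ≤ W p)) (ha p)
    have h2 := congrArg (AModX.res (CohB1.tensorMod E N) (inf_le_right : W p ⊓ W q ≤ W q)) (ha q)
    rw [AModX.res_res, res_tmul, AModX.res_res] at h1 h2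
    exact h1.symm.trans h2
  refine ⟨A, AModX.eq_of_locally _ _ fun p hp => ⟨W ⟨p, hp⟩, hW _, hpW _, ?_⟩⟩
  rw [res_tmul, AModX.res_res, ha, hA]

theorem tmul_frame_bijective {U : X.Opens} {e : Γ(N, U)} (he : IsFrame e) :
    Function.Bijective fun a : Γ(E, U) => tmul a e := by
  have h1 := tmul_frame_injective (E := E) he (le_refl U)
  have h2 := tmul_frame_surjective (E := E) he (le_refl U)
  simp only [AModX.res_self] at h1 h2
  exact ⟨h1, h2⟩

theorem tmul_zero_right {U : X.Opens} (a : Γ(E, U)) : tmul a (0 : Γ(N, U)) = 0 := by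
  have h := tmul_smul_right (0 : Γ(X, U)) a (0 : Γ(N, U))
  rwa [smul_zero, zero_smul] at h

theorem tmul_sub_left {U : X.Opens} (a b : Γ(E, U)) (c : Γ(N, U)) : tmul (a - b) c = tmul a c - tmul b c := by
  rw [eq_sub_iff_add_eq, ← AmpleVan.tmul_add_left, sub_add_cancel]

end Groth.Agent.H44Adj
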