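import Groth.Agent.H44Hyper.ExtLoc
import Groth.Agent.Synt29.ExtKer
import Mathlib.LinearAlgebra.CliffordAlgebra.Contraction
import Mathlib.LinearAlgebra.ExteriorAlgebra.Basic

/-! # Exterior powers along a hypersurface -/

universe u

open exteriorPower

namespace Groth.Agent.H44Adj

open Groth.Agent.H44Hyper (extLoc extLoc_ιMulti)

section wedge

variable {A P : Type u} [CommRing A] [AddCommGroup P] [Module A P]

/-- Wedging with a vector. -/
noncomputable def wedgeL (v : P) (c : ℕ) : ⋀[A]^c P →ₗ[A] ⋀[A]^(c + 1) P :=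
  alternatingMapLinearEquiv ((ιMulti A (c + 1)).curryLeft v)

theorem wedgeL_ιMulti (v : P) {c : ℕ} (p : Fin c → P) :
    wedgeL v c (ιMulti A c p) = ιMulti A (c + 1) (Matrix.vecCons v p) := by
  rw [wedgeL, alternatingMapLinearEquiv_apply_ιMulti]
  rfl

theorem coe_wedgeL (v : P) {c : ℕ} (x : ⋀[A]^c P) :
    (wedgeL v c x : ExteriorAlgebra A P) = ExteriorAlgebra.ι A v * (x : ExteriorAlgebra A P) := by
  have hx : x ∈ Submodule.span A (Set.range (ιMulti A c (M := P))) := by rw [ιMulti_span]; trivial
  induction hx using Submodule.span_induction with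
  | mem z hz =>
    obtain ⟨p, rfl⟩ := hz
    rw [wedgeL_ιMulti, ιMulti_apply_coe, ιMulti_apply_coe, ExteriorAlgebra.ιMulti_succ_apply]
    rfl
  | zero => simp
  | add a b _ _ ha hb => rw [map_add, Submodule.coe_add, ha, hb, Submodule.coe_add, mul_add]
  | smul r a _ ha => rw [map_smul, Submodule.coe_smul, ha, Submodule.coe_smul, mul_smul_comm]

theorem wedgeL_wedgeL (v : P) {c : ℕ} (x : ⋀[A]^c P) : wedgeL v (c + 1) (wedgeL v c x) = 0 := by
  apply Subtype.ext
  rw [coe_wedgeL, coe_wedgeL, ← mul_assoc, ExteriorAlgebra.ι_sq_zero, zero_mul]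
  rfl

end wedge

variable {A B P N : Type u} [CommRing A] [CommRing B] [Algebra A B] [AddCommGroup P] [Module A P]
  [AddCommGroup N] [Module B N] [Module A N] [IsScalarTower A B N] {ρ : P →ₗ[A] N} {g : A} {v : P}

/-- The reduction of forms. -/
noncomputable abbrev R (ρ : P →ₗ[A] N) (c : ℕ) : ⋀[A]^c P →ₗ[A] ⋀[B]^c N := extLoc B ρ c

theorem R_surjective (hB : Function.Surjective (algebraMap A B)) (hρ : Function.Surjective ρ) (c : ℕ) :
    Function.Surjective (R (B := B) ρ c) := by
  intro y
  have hy : y ∈ Submodule.span B (Set.range (ιMulti B c (M := N))) := by rw [ιMulti_span]; trivial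
  induction hy using Submodule.span_induction with
  | mem z hz =>
    obtain ⟨e, rfl⟩ := hz
    choose p hp using fun i => hρ (e i)
    exact ⟨ιMulti A c p, by rw [extLoc_ιMulti]; exact congrArg _ (funext hp)⟩
  | zero => exact ⟨0, map_zero _⟩
  | add a b _ _ ha hb =>
    obtain ⟨x, rfl⟩ := ha
    obtain ⟨x', rfl⟩ := hb
    exact ⟨x + x', map_add _ _ _⟩
  | smul r a _ ha =>
    obtain ⟨x, rfl⟩ := ha
    obtain ⟨r, rfl⟩ := hB r
    exact ⟨r • x, by rw [map_smul, algebraMap_smul]⟩

/-- Exterior powers over a ring are exterior powers over a quotient. -/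
theorem extLoc_id_injective (hB : Function.Surjective (algebraMap A B)) (c : ℕ) :
    Function.Injective (extLoc B (LinearMap.id : N →ₗ[A] N) (c + 1)) := by
  classical
  let sec := Function.surjInv hB
  have hsec : ∀ b, algebraMap A B (sec b) = b := Function.surjInv_eq hB
  have hann : ∀ a a' : A, algebraMap A B a = algebraMap A B a' → ∀ z : ⋀[A]^(c + 1) N, a • z = a' • z := by
    intro a a' h z
    have hz : z ∈ Submodule.span A (Set.range (ιMulti A (c + 1) (M := N))) := by rw [ιMulti_span]; trivial
    induction hz using Submodule.span_induction with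
    | mem y hy =>
      obtain ⟨e, rfl⟩ := hy
      have key : ∀ a : A, a • ιMulti A (c + 1) e =
          ιMulti A (c + 1) (Function.update e (0 : Fin (c + 1)) (a • e (0 : Fin (c + 1)))) := fun a => by
        exact (((ιMulti A (c + 1)).map_update_smul e 0 a (e 0)).trans (by rw [Function.update_eq_self])).symm
      rw [key, key, ← algebraMap_smul B a, ← algebraMap_smul B a', h]
    | zero => rw [smul_zero, smul_zero]
    | add x y _ _ hx hy => rw [smul_add, smul_add, hx, hy]
    | smul r x _ hx => rw [smul_comm a r, smul_comm a' r, hx]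
  letI mB : Module B (⋀[A]^(c + 1) N) :=
    { smul := fun b z => sec b • z
      one_smul := fun z => (hann _ 1 (by rw [hsec, map_one]) z).trans (one_smul A z)
      mul_smul := fun b b' z => (hann _ (sec b * sec b') (by rw [hsec, map_mul, hsec, hsec]) z).trans (mul_smul _ _ z)
      smul_zero := fun b => smul_zero (sec b)
      smul_add := fun b z z' => smul_add (sec b) z z'
      add_smul := fun b b' z => (hann _ (sec b + sec b') (by rw [hsec, map_add, hsec, hsec]) z).trans (add_smul _ _ z)
      zero_smul := fun z => (hann _ 0 (by rw [hsec, map_zero]) z).trans (zero_smul A z) }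
  let alt : N [⋀^Fin (c + 1)]→ₗ[B] (⋀[A]^(c + 1) N) :=
    { toFun := ιMulti A (c + 1)
      map_update_add' := fun {inst} w i x y => by
        obtain rfl : inst = instDecidableEqFin _ := Subsingleton.elim _ _
        exact AlternatingMap.map_update_add _ w i x y
      map_update_smul' := fun {inst} w i b x => by
        obtain rfl : inst = instDecidableEqFin _ := Subsingleton.elim _ _
        show ιMulti A (c + 1) (Function.update w i (b • x)) = sec b • ιMulti A (c + 1) (Function.update w i x)
        rw [← AlternatingMap.map_update_smul, ← algebraMap_smul B (sec b) x, hsec]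
      map_eq_zero_of_eq' := fun w i j h hij => AlternatingMap.map_eq_zero_of_eq _ w h hij }
  let Φ := alternatingMapLinearEquiv alt
  have hΦ : ∀ z, Φ (extLoc B (LinearMap.id : N →ₗ[A] N) (c + 1) z) = z := by
    intro z
    have hz : z ∈ Submodule.span A (Set.range (ιMulti A (c + 1) (M := N))) := by rw [ιMulti_span]; trivial
    induction hz using Submodule.span_induction with
    | mem y hy =>
      obtain ⟨e, rfl⟩ := hy
      rw [extLoc_ιMulti]
      exact alternatingMapLinearEquiv_apply_ιMulti _ _
    | zero => rw [map_zero, map_zero]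
    | add x y _ _ hx hy => rw [map_add, map_add, hx, hy]
    | smul r x _ hx =>
      rw [map_smul, ← algebraMap_smul B r, map_smul, hx]
      exact hann _ r (hsec _) x
  exact Function.LeftInverse.injective hΦ

theorem R_wedgeL_eq_zero (hv : ρ v = 0) {c : ℕ} (x : ⋀[A]^c P) : R (B := B) ρ (c + 1) (wedgeL v c x) = 0 := by
  have hx : x ∈ Submodule.span A (Set.range (ιMulti A c (M := P))) := by rw [ιMulti_span]; trivial
  induction hx using Submodule.span_induction with
  | mem z hz =>
    obtain ⟨p, rfl⟩ := hz
    rw [wedgeL_ιMulti, extLoc_ιMulti]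
    exact (ιMulti B (c + 1)).map_coord_zero 0 hv
  | zero => rw [map_zero, map_zero]
  | add a b _ _ ha hb => rw [map_add, map_add, ha, hb, add_zero]
  | smul r a _ ha => rw [map_smul, map_smul, ha, smul_zero]

variable (hB : Function.Surjective (algebraMap A B)) (hρ : Function.Surjective ρ) (hg : algebraMap A B g = 0)
  (hker : ∀ x, ρ x = 0 ↔ ∃ (a : A) (y : P), x = g • y + a • v)

include hB hρ hg hker in
/-- The kernel of the reduction of forms. -/
theorem R_eq_zero_iff {c : ℕ} (z : ⋀[A]^(c + 1) P) :
    R (B := B) ρ (c + 1) z = 0 ↔ ∃ (y : ⋀[A]^(c + 1) P) (x : ⋀[A]^c P), z = g • y + wedgeL v c x := by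
  refine ⟨fun h => ?_, ?_⟩
  · have hcomp : ∀ z, R (B := B) ρ (c + 1) z = extLoc B (LinearMap.id : N →ₗ[A] N) (c + 1)
        (exteriorPower.map (c + 1) ρ z) := by
      intro z
      refine LinearMap.congr_fun (exteriorPower.linearMap_ext (AlternatingMap.ext fun e => ?_) :
        R (B := B) ρ (c + 1) = (extLoc B (LinearMap.id : N →ₗ[A] N) (c + 1)).comp (exteriorPower.map (c + 1) ρ)) z
      simp only [LinearMap.compAlternatingMap_apply, LinearMap.comp_apply, exteriorPower.map_apply_ιMulti,
        extLoc_ιMulti]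
      rfl
    rw [hcomp] at h
    have hz := Synt29.ExtKer.ker_map_le ρ hρ c
      (LinearMap.mem_ker.2 (extLoc_id_injective hB c (h.trans (map_zero _).symm)))
    clear h
    induction hz using Submodule.span_induction with
    | mem w hw =>
      obtain ⟨ω, p, hω, rfl⟩ := hw
      obtain ⟨a, y, rfl⟩ := (hker ω).1 hω
      refine ⟨ιMulti A (c + 1) (Fin.cons y p), a • ιMulti A c p, ?_⟩
      rw [map_smul, wedgeL_ιMulti]
      have key : ∀ w, ιMulti A (c + 1) (Fin.cons w p) = (ιMulti A (c + 1)).curryLeft w p := fun _ => rfl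
      rw [key, key, map_add, map_smul, map_smul]
      rfl
    | zero => exact ⟨0, 0, by rw [smul_zero, map_zero, add_zero]⟩
    | add w w' _ _ hw hw' =>
      obtain ⟨y, x, rfl⟩ := hw
      obtain ⟨y', x', rfl⟩ := hw'
      exact ⟨y + y', x + x', by rw [smul_add, map_add]; abel⟩
    | smul r w _ hw =>
      obtain ⟨y, x, rfl⟩ := hw
      exact ⟨r • y, r • x, by rw [smul_add, map_smul, smul_comm]⟩
  · rintro ⟨y, x, rfl⟩
    rw [map_add, map_smul, R_wedgeL_eq_zero ((hker v).2 ⟨1, 0, by rw [smul_zero, zero_add, one_smul]⟩),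
      ← algebraMap_smul B g, hg, zero_smul, add_zero]

variable (θ : P →ₗ[A] B) (hθ : θ v = 1) (hAB : RingHom.ker (algebraMap A B) = Ideal.span {g})

include hB hρ hg hker hθ hAB in
/-- A wedge with the differential of the equation is divisible by the equation iff the form restricts to zero. -/
theorem wedgeL_mem_iff {c : ℕ} (x : ⋀[A]^c P) :
    (∃ w, wedgeL v c x = g • w) ↔ R (B := B) ρ c x = 0 := by
  refine ⟨fun ⟨w, hw⟩ => ?_, fun h => ?_⟩
  · let ρ' : P →ₗ[A] N × B := ρ.prod θ
    have h1 : ∀ {i : ℕ} (x : ⋀[A]^i P), (R (B := B) ρ' (i + 1) (wedgeL v i x) : ExteriorAlgebra B (N × B)) =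
        ExteriorAlgebra.ι B ((0 : N), (1 : B)) * (R (B := B) ρ' i x : ExteriorAlgebra B (N × B)) := by
      intro i x
      have hv : ρ' v = ((0 : N), (1 : B)) := Prod.ext ((hker v).2 ⟨1, 0, by rw [smul_zero, zero_add, one_smul]⟩) hθ
      have hx : x ∈ Submodule.span A (Set.range (ιMulti A i (M := P))) := by rw [ιMulti_span]; trivial
      induction hx using Submodule.span_induction with
      | mem z hz =>
        obtain ⟨p, rfl⟩ := hz
        rw [wedgeL_ιMulti, extLoc_ιMulti, extLoc_ιMulti, ιMulti_apply_coe, ιMulti_apply_coe,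
          ExteriorAlgebra.ιMulti_succ_apply]
        rw [show (Matrix.vecCons v p 0) = v from rfl, hv]
        rfl
      | zero => simp
      | add a b _ _ ha hb =>
        rw [map_add, map_add, map_add, Submodule.coe_add, ha, hb, Submodule.coe_add, mul_add]
      | smul r a _ ha =>
        rw [map_smul, map_smul, map_smul, ← algebraMap_smul B r, ← algebraMap_smul B r, Submodule.coe_smul,
          Submodule.coe_smul, ha, mul_smul_comm]
    have h2 : ∀ x : ⋀[A]^c P, ExteriorAlgebra.map (LinearMap.fst B N B) (R (B := B) ρ' c x : ExteriorAlgebra B (N × B)) =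
        (R (B := B) ρ c x : ExteriorAlgebra B N) := by
      clear hw w
      intro x
      have hx : x ∈ Submodule.span A (Set.range (ιMulti A c (M := P))) := by rw [ιMulti_span]; trivial
      induction hx using Submodule.span_induction with
      | mem z hz =>
        obtain ⟨p, rfl⟩ := hz
        rw [extLoc_ιMulti, extLoc_ιMulti, ιMulti_apply_coe, ιMulti_apply_coe, ExteriorAlgebra.map_apply_ιMulti]
        rfl
      | zero => simp
      | add a b _ _ ha hb => rw [map_add, map_add, Submodule.coe_add, map_add, ha, hb, Submodule.coe_add]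
      | smul r a _ ha =>
        rw [map_smul, map_smul, ← algebraMap_smul B r, ← algebraMap_smul B r (R (B := B) ρ c a),
          Submodule.coe_smul, Submodule.coe_smul, map_smul, ha]
    have h3 := congrArg (fun z => (R (B := B) ρ' (c + 1) z : ExteriorAlgebra B (N × B))) hw
    simp only [h1, map_smul] at h3
    rw [← algebraMap_smul B g, hg, zero_smul, Submodule.coe_zero] at h3
    have h4 := congrArg (CliffordAlgebra.contractLeft (Q := (0 : QuadraticForm B (N × B))) (LinearMap.snd B N B)) h3
    rw [map_zero] at h4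
    erw [CliffordAlgebra.contractLeft_ι_mul] at h4
    have h5 := congrArg (ExteriorAlgebra.map (LinearMap.fst B N B)) h4
    rw [map_zero, map_sub, map_smul, map_mul] at h5
    erw [ExteriorAlgebra.map_apply_ι] at h5
    simp only [LinearMap.fst_apply, map_zero, zero_mul, sub_zero, LinearMap.snd_apply, one_smul] at h5
    apply Subtype.ext
    rw [← h2 x, Submodule.coe_zero]
    exact h5
  · cases c with
    | zero =>
      obtain ⟨r, rfl⟩ := (exteriorPower.zeroEquiv A P).symm.surjective x
      have hr : r • ιMulti A 0 (fun i => i.elim0) = (exteriorPower.zeroEquiv A P).symm r := by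
        rw [exteriorPower.zeroEquiv_symm_apply]
        exact congrArg (r • ·) (congrArg _ (Subsingleton.elim _ _))
      rw [← hr, map_smul, extLoc_ιMulti, ← algebraMap_smul B r] at h
      have hr0 : algebraMap A B r = 0 := by
        have := congrArg (exteriorPower.zeroEquiv B N) h
        rw [map_smul, map_zero, exteriorPower.zeroEquiv_ιMulti, smul_eq_mul, mul_one] at this
        exact this
      obtain ⟨e, rfl⟩ := Ideal.mem_span_singleton'.1 (hAB ▸ (RingHom.mem_ker.2 hr0 : r ∈ RingHom.ker (algebraMap A B)))
      exact ⟨wedgeL v 0 (e • ιMulti A 0 fun i => i.elim0), by rw [← hr, map_smul, map_smul, smul_smul, mul_comm g e]⟩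
    | succ c =>
      obtain ⟨y, z, rfl⟩ := (R_eq_zero_iff hB hρ hg hker x).1 h
      exact ⟨wedgeL v _ y, by rw [map_add, map_smul, wedgeL_wedgeL, add_zero]⟩

end Groth.Agent.H44Adj
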