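import Groth.Agent.H44Adj.Derivation
import Groth.Agent.H44Adj.ExtSeq
import Groth.Agent.H44LogNCD.Frame
import Groth.Agent.OmegaUniv.Universal
import Groth.Agent.Synt29.OmegaRestrict
import Mathlib.AlgebraicGeometry.Morphisms.Smooth

/-! # Differentials of a smooth hypersurface on a chart -/

universe u

open CategoryTheory CategoryTheory.Limits AlgebraicGeometry TopologicalSpace Opposite

set_option linter.style.haveILetI false
set_option backward.isDefEq.respectTransparency false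
set_option backward.isDefEq.respectTransparency.types false

namespace Groth.Agent.H44Adj

open Synt29 (OmegaStalk.app_res OmegaStalk.app_mul OmegaStalk.app_base)

variable {X Y Z : Scheme.{u}} (j : Z ⟶ X) {f : X ⟶ Y}

/-- The direct image of a derivation. -/
noncomputable def pushDer {F : Z.Modules} (D : OmegaSh.Der (j ≫ f) F) :
    OmegaSh.Der f ((Scheme.Modules.pushforward j).obj F) where
  d {W} :=
    { toFun := fun s => D.app (j ⁻¹ᵁ W.unop) (j.app W.unop s)
      map_zero' := by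
        show D.app (j ⁻¹ᵁ W.unop) (j.app W.unop 0) = 0
        rw [map_zero, map_zero]
      map_add' := fun s t => by
        show D.app (j ⁻¹ᵁ W.unop) (j.app W.unop (s + t)) = _
        rw [map_add, map_add] }
  d_mul {W} s t := by
    show D.app (j ⁻¹ᵁ W.unop) (j.app W.unop (s * t)) =
      j.app W.unop s • D.app (j ⁻¹ᵁ W.unop) (j.app W.unop t) +
        j.app W.unop t • D.app (j ⁻¹ᵁ W.unop) (j.app W.unop s)
    rw [map_mul, Synt29.OmegaStalk.app_mul]
  d_map {W V} i s := by
    show D.app (j ⁻¹ᵁ V.unop) (j.app V.unop (X.presheaf.map i s)) =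
      F.presheaf.map ((TopologicalSpace.Opens.map j.base).map i.unop).op
        (D.app (j ⁻¹ᵁ W.unop) (j.app W.unop s))
    rw [← Synt29.OmegaStalk.app_res]
    exact congrArg _ (congr($(j.naturality i) s))
  d_app {V} c := Synt29.OmegaStalk.app_base F D V.unop c

variable {k : Type u} [Field k] {X : Scheme.{u}} (f : X ⟶ Spec (CommRingCat.of k)) [QuasiSeparated f]
  (I : X.IdealSheafData) [QuasiSeparated (I.subschemeι ≫ f)]

/-- Restriction of differentials to a closed subscheme. -/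
noncomputable def ρΩ : Omega.sheaf f ⟶
    (Scheme.Modules.pushforward I.subschemeι).obj (Omega.sheaf (I.subschemeι ≫ f)) :=
  OmegaUniv.desc (pushDer I.subschemeι (OmegaSh.dOmega (I.subschemeι ≫ f)))

/-- The value of the restriction on a section, in the sections of the subscheme. -/
noncomputable abbrev ρS (U : X.Opens) (x : Γ(Omega.sheaf f, U)) :
    Γ(Omega.sheaf (I.subschemeι ≫ f), I.subschemeι ⁻¹ᵁ U) := (ρΩ f I).app U x

theorem ρS_d (U : X.Opens) (a : Γ(X, U)) : ρS f I U ((OmegaSh.dOmega f).app U a) =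
    (OmegaSh.dOmega (I.subschemeι ≫ f)).app (I.subschemeι ⁻¹ᵁ U) (I.subschemeι.app U a) :=
  OmegaUniv.desc_d _ U a

theorem ρS_smul (U : X.Opens) (a : Γ(X, U)) (x : Γ(Omega.sheaf f, U)) :
    ρS f I U (a • x) = I.subschemeι.app U a • ρS f I U x :=
  Scheme.Modules.Hom.app_smul (ρΩ f I) a x

/-- Restriction of differentials is surjective on affines, with kernel spanned by the equation and its
differential; there is a linear form taking that differential to `1`. -/
theorem chart [Smooth (I.subschemeι ≫ f)] {U : X.affineOpens} {g : Γ(X, U.1)} (hI : I.ideal U = Ideal.span {g})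
    (hg : IsSMulRegular Γ(X, U.1) g) :
    Function.Surjective (ρS f I U.1) ∧
    (∀ x, ρS f I U.1 x = 0 ↔ ∃ (a : Γ(X, U.1)) (y : Γ(Omega.sheaf f, U.1)),
      x = g • y + a • (OmegaSh.dOmega f).app U.1 g) ∧
    ∃ θ : Γ(Omega.sheaf f, U.1) →+ Γ(I.subscheme, I.subschemeι ⁻¹ᵁ U.1),
      (∀ a x, θ (a • x) = I.subschemeι.app U.1 a * θ x) ∧ θ ((OmegaSh.dOmega f).app U.1 g) = 1 := by
  let i := I.subschemeι
  let U' : I.subscheme.Opens := i ⁻¹ᵁ U.1
  have hU' : IsAffineOpen U' := U.2.preimage i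
  have hV : IsAffineOpen (⊤ : (Spec (CommRingCat.of k)).Opens) := isAffineOpen_top _
  have e : U.1 ≤ f ⁻¹ᵁ ⊤ := le_top
  have e' : U' ≤ (i ≫ f) ⁻¹ᵁ ⊤ := le_top
  letI algA := (f.appLE ⊤ U.1 e).hom.toAlgebra
  letI algB := ((i ≫ f).appLE ⊤ U' e').hom.toAlgebra
  letI algAB : Algebra Γ(X, U.1) Γ(I.subscheme, U') := (i.app U.1).hom.toAlgebra
  haveI : IsScalarTower Γ(Spec (CommRingCat.of k), ⊤) Γ(X, U.1) Γ(I.subscheme, U') :=
    IsScalarTower.of_algebraMap_eq' (by
      show ((i ≫ f).appLE ⊤ U' e').hom = (i.app U.1).hom.comp (f.appLE ⊤ U.1 e).hom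
      rw [← CommRingCat.hom_comp, Scheme.Hom.app_eq_appLE, Scheme.Hom.appLE_comp_appLE])
  haveI hfs : Algebra.FormallySmooth Γ(Spec (CommRingCat.of k), ⊤) Γ(I.subscheme, U') := by
    have h : ((i ≫ f).appLE ⊤ U' e').hom.Smooth := (i ≫ f).smooth_appLE hV hU' e'
    haveI : Algebra.Smooth Γ(Spec (CommRingCat.of k), ⊤) Γ(I.subscheme, U') := h
    infer_instance
  have hsurj : Function.Surjective (algebraMap Γ(X, U.1) Γ(I.subscheme, U')) := I.subschemeι_app_surjective U
  have hker : RingHom.ker (algebraMap Γ(X, U.1) Γ(I.subscheme, U')) = Ideal.span {g} :=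
    (I.ker_subschemeι_app U).trans hI
  obtain ⟨EA, hEA⟩ := H44LogNCD.exists_omega_equiv (OmegaUniv.isUniversal_dOmega f) U.2 hV e
  obtain ⟨EB, hEB⟩ := H44LogNCD.exists_omega_equiv (OmegaUniv.isUniversal_dOmega (i ≫ f)) hU' hV e'
  letI : Module Γ(X, U.1) Γ(Omega.sheaf (i ≫ f), U') := Module.compHom _ (i.app U.1).hom
  haveI : IsScalarTower Γ(X, U.1) Γ(I.subscheme, U') Γ(Omega.sheaf (i ≫ f), U') :=
    ⟨fun a b x => mul_smul (i.app U.1 a) b x⟩
  let ρ : Ω[Γ(X, U.1)⁄Γ(Spec (CommRingCat.of k), ⊤)] →ₗ[Γ(X, U.1)]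
      Ω[Γ(I.subscheme, U')⁄Γ(Spec (CommRingCat.of k), ⊤)] :=
    { toFun := fun w => EB (ρS f I U.1 (EA.symm w))
      map_add' := fun w w' => by
        rw [map_add EA.symm]
        exact (congrArg EB (map_add ((ρΩ f I).app U.1).hom _ _)).trans (EB.map_add _ _)
      map_smul' := fun a w => by
        rw [map_smul, ρS_smul, map_smul, RingHom.id_apply]
        exact algebraMap_smul Γ(I.subscheme, U') a _ }
  have hρ : ∀ a, ρ (KaehlerDifferential.D Γ(Spec (CommRingCat.of k), ⊤) Γ(X, U.1) a) =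
      KaehlerDifferential.D Γ(Spec (CommRingCat.of k), ⊤) Γ(I.subscheme, U') (algebraMap _ _ a) := fun a => by
    show EB (ρS f I U.1 (EA.symm _)) = _
    rw [← hEA, LinearEquiv.symm_apply_apply, ρS_d]
    exact hEB _
  obtain ⟨hs, hk⟩ := ker_kaehler g hsurj hker ρ hρ
  have hρx : ∀ x, ρ (EA x) = EB (ρS f I U.1 x) := fun x => by
    show EB (ρS f I U.1 (EA.symm (EA x))) = _
    rw [LinearEquiv.symm_apply_apply]
  refine ⟨fun y => ?_, fun x => ?_, ?_⟩
  · obtain ⟨w, hw⟩ := hs (EB y)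
    exact ⟨EA.symm w, EB.injective hw⟩
  · rw [← EB.map_eq_zero_iff, ← hρx, hk]
    constructor
    · rintro ⟨a, y, hy⟩
      refine ⟨a, EA.symm y, EA.injective ?_⟩
      rw [hy, map_add, map_smul, map_smul, LinearEquiv.apply_symm_apply, hEA]
    · rintro ⟨a, y, rfl⟩
      exact ⟨a, EA y, by rw [map_add, map_smul, map_smul, hEA]⟩
  · obtain ⟨Dv, hDv⟩ := exists_der (k := Γ(Spec (CommRingCat.of k), ⊤)) (B := Γ(I.subscheme, U')) g hsurj hker hg
    refine ⟨(Dv.liftKaehlerDifferential.toAddMonoidHom).comp EA.toLinearMap.toAddMonoidHom, fun a x => ?_, ?_⟩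
    · show Dv.liftKaehlerDifferential (EA (a • x)) = _
      rw [map_smul, map_smul]
      rfl
    · show Dv.liftKaehlerDifferential (EA _) = 1
      rw [hEA, Derivation.liftKaehlerDifferential_comp_D, hDv]

end Groth.Agent.H44Adj
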