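import Mathlib.RingTheory.Smooth.Basic
import Mathlib.RingTheory.Kaehler.Basic

/-! # A smooth hypersurface: the derivation dual to the equation, and its differentials -/

universe u

namespace Groth.Agent.H44Adj

variable {k A B : Type u} [CommRing k] [CommRing A] [CommRing B] [Algebra k A] [Algebra k B] [Algebra A B]
  [IsScalarTower k A B] (g : A)

/-- For a formally smooth hypersurface there is a derivation into its ring taking the equation to `1`. -/
theorem exists_der [Algebra.FormallySmooth k B] (hπ : Function.Surjective (algebraMap A B))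
    (hker : RingHom.ker (algebraMap A B) = Ideal.span {g}) (hg : IsSMulRegular A g) :
    ∃ D : Derivation k A B, D g = 1 := by
  classical
  let J : Ideal A := Ideal.span {g ^ 2}
  let π : A →ₐ[k] B := IsScalarTower.toAlgHom k A B
  let π' : A ⧸ J →ₐ[k] B := Ideal.Quotient.liftₐ J π fun a ha => by
    obtain ⟨c, rfl⟩ := Ideal.mem_span_singleton'.1 ha
    rw [map_mul, map_pow, show π g = 0 from RingHom.mem_ker.1 (hker ▸ Ideal.mem_span_singleton_self g)]
    simp
  have hπ' : Function.Surjective π' := fun b => by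
    obtain ⟨a, rfl⟩ := hπ b
    exact ⟨Ideal.Quotient.mk J a, rfl⟩
  have hnil : IsNilpotent (RingHom.ker (π' : A ⧸ J →+* B)) := ⟨2, by
    rw [Submodule.zero_eq_bot, eq_bot_iff, pow_two, Ideal.mul_le]
    intro x hx y hy
    obtain ⟨a, rfl⟩ := Ideal.Quotient.mk_surjective x
    obtain ⟨b, rfl⟩ := Ideal.Quotient.mk_surjective y
    obtain ⟨a', rfl⟩ := Ideal.mem_span_singleton'.1 (hker ▸ (RingHom.mem_ker.2 hx : a ∈ RingHom.ker (algebraMap A B)))
    obtain ⟨b', rfl⟩ := Ideal.mem_span_singleton'.1 (hker ▸ (RingHom.mem_ker.2 hy : b ∈ RingHom.ker (algebraMap A B)))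
    rw [← map_mul, Ideal.mem_bot, Ideal.Quotient.eq_zero_iff_mem, Ideal.mem_span_singleton']
    exact ⟨a' * b', by ring⟩⟩
  let σ : B →ₐ[k] A ⧸ J := Algebra.FormallySmooth.liftOfSurjective (AlgHom.id k B) π' hπ' hnil
  have hσ : ∀ b, π' (σ b) = b := fun b => Algebra.FormallySmooth.liftOfSurjective_apply _ π' hπ' hnil b
  -- the well-defined quotient by the equation
  have key : ∀ a : A, ∃ t : B, ∀ c : A, Ideal.Quotient.mk J a - σ (algebraMap A B a) = Ideal.Quotient.mk J (c * g) →
      algebraMap A B c = t := fun a => by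
    by_cases h : ∃ c, Ideal.Quotient.mk J a - σ (algebraMap A B a) = Ideal.Quotient.mk J (c * g)
    · obtain ⟨c₀, hc₀⟩ := h
      refine ⟨algebraMap A B c₀, fun c hc => ?_⟩
      have := Ideal.Quotient.eq.1 (hc.symm.trans hc₀)
      obtain ⟨e, he⟩ := Ideal.mem_span_singleton'.1 this
      rw [← sub_eq_zero, ← map_sub, ← RingHom.mem_ker, hker, Ideal.mem_span_singleton']
      exact ⟨e, hg (show g * (e * g) = g * (c - c₀) by rw [show g * (e * g) = e * g ^ 2 by ring, he]; ring)⟩
    · exact ⟨0, fun c hc => absurd ⟨c, hc⟩ h⟩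
  choose T hT using key
  have hex : ∀ a : A, ∃ c, Ideal.Quotient.mk J a - σ (algebraMap A B a) = Ideal.Quotient.mk J (c * g) := fun a => by
    obtain ⟨x, hx⟩ := Ideal.Quotient.mk_surjective (Ideal.Quotient.mk J a - σ (algebraMap A B a))
    have : x ∈ RingHom.ker (algebraMap A B) := RingHom.mem_ker.2 (by
      show π' (Ideal.Quotient.mk J x) = 0
      rw [hx, map_sub, hσ]
      exact sub_self _)
    obtain ⟨c, rfl⟩ := Ideal.mem_span_singleton'.1 (hker ▸ this)
    exact ⟨c, hx.symm⟩
  have hspec : ∀ a c, Ideal.Quotient.mk J a - σ (algebraMap A B a) = Ideal.Quotient.mk J (c * g) →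
      T a = algebraMap A B c := fun a c h => (hT a c h).symm
  refine ⟨Derivation.mk'
    { toFun := T
      map_add' := fun a b => by
        obtain ⟨c, hc⟩ := hex a; obtain ⟨e, he⟩ := hex b
        rw [hspec a c hc, hspec b e he, ← map_add]
        refine hspec _ _ ?_
        simp only [map_add, add_mul, ← hc, ← he]; abel
      map_smul' := fun r a => by
        obtain ⟨c, hc⟩ := hex a
        rw [hspec a c hc, RingHom.id_apply, Algebra.smul_def r (algebraMap A B c),
          IsScalarTower.algebraMap_apply k A B, ← map_mul]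
        refine hspec _ _ ?_
        rw [Algebra.smul_def r a]
        simp only [map_mul, ← IsScalarTower.algebraMap_apply k A B, AlgHom.commutes, mul_assoc,
          ← Ideal.Quotient.algebraMap_eq, ← IsScalarTower.algebraMap_apply k A (A ⧸ J)]
        rw [← map_mul (algebraMap A (A ⧸ J)) c, Ideal.Quotient.algebraMap_eq, ← hc, mul_sub] }
    fun a b => ?_, ?_⟩
  · obtain ⟨c, hc⟩ := hex a; obtain ⟨e, he⟩ := hex b
    show T (a * b) = a • T b + b • T a
    rw [hspec a c hc, hspec b e he, Algebra.smul_def, Algebra.smul_def, ← map_mul, ← map_mul, ← map_add]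
    refine (hspec _ (a * e + b * c - c * e * g) ?_).trans ?_
    · have ha : σ (algebraMap A B a) = Ideal.Quotient.mk J (a - c * g) := by rw [map_sub, ← hc]; abel
      have hb : σ (algebraMap A B b) = Ideal.Quotient.mk J (b - e * g) := by rw [map_sub, ← he]; abel
      rw [map_mul (algebraMap A B), map_mul σ, ha, hb, ← map_mul, ← map_sub]
      congr 1; ring
    · rw [map_sub, map_mul _ (c * e) g,
        show algebraMap A B g = 0 from RingHom.mem_ker.1 (hker ▸ Ideal.mem_span_singleton_self g), mul_zero, sub_zero]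
  · show T g = 1
    rw [hspec g 1 ?_, map_one]
    rw [show algebraMap A B g = 0 from RingHom.mem_ker.1 (hker ▸ Ideal.mem_span_singleton_self g), map_zero, sub_zero,
      one_mul]

variable {M N : Type u} [AddCommGroup M] [Module A M] [AddCommGroup N] [Module B N] [Module A N] [IsScalarTower A B N]

open KaehlerDifferential in
/-- The kernel of the differentials of a hypersurface. -/
theorem ker_kaehler (hπ : Function.Surjective (algebraMap A B))
    (hker : RingHom.ker (algebraMap A B) = Ideal.span {g}) (ρ : Ω[A⁄k] →ₗ[A] Ω[B⁄k])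
    (hρ : ∀ a, ρ (D k A a) = D k B (algebraMap A B a)) :
    Function.Surjective ρ ∧ ∀ x, ρ x = 0 ↔ ∃ (c : A) (y : Ω[A⁄k]), x = g • y + c • D k A g := by
  let Q : Submodule A Ω[A⁄k] := LinearMap.range (g • (LinearMap.id : Ω[A⁄k] →ₗ[A] Ω[A⁄k])) ⊔ Submodule.span A {D k A g}
  have hQ : ∀ x, x ∈ Q ↔ ∃ (c : A) (y : Ω[A⁄k]), x = g • y + c • D k A g := fun x => by
    simp only [Q, Submodule.mem_sup, LinearMap.mem_range, Submodule.mem_span_singleton]
    exact ⟨fun ⟨_, ⟨y, rfl⟩, _, ⟨c, rfl⟩, h⟩ => ⟨c, y, h.symm⟩, fun ⟨c, y, h⟩ => ⟨_, ⟨y, rfl⟩, _, ⟨c, rfl⟩, h.symm⟩⟩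
  have hgB : algebraMap A B g = 0 := RingHom.mem_ker.1 (hker ▸ Ideal.mem_span_singleton_self g)
  have hρQ : ∀ x ∈ Q, ρ x = 0 := fun x hx => by
    obtain ⟨c, y, rfl⟩ := (hQ x).1 hx
    rw [map_add, map_smul, map_smul, hρ, hgB, map_zero, smul_zero, add_zero, ← algebraMap_smul B g (ρ y), hgB, zero_smul]
  -- the quotient as a module over the hypersurface
  let sec := Function.surjInv hπ
  have hsec : ∀ b, algebraMap A B (sec b) = b := Function.surjInv_eq hπ
  have hann : ∀ (a a' : A), algebraMap A B a = algebraMap A B a' → ∀ z : Ω[A⁄k] ⧸ Q, a • z = a' • z := by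
    intro a a' h z
    obtain ⟨z, rfl⟩ := Submodule.mkQ_surjective Q z
    rw [← sub_eq_zero, ← sub_smul, ← map_smul]
    obtain ⟨e, he⟩ := Ideal.mem_span_singleton'.1 (hker ▸ (RingHom.mem_ker.2 (by rw [map_sub, h, sub_self]) :
      a - a' ∈ RingHom.ker (algebraMap A B)))
    exact (Submodule.Quotient.mk_eq_zero _).2 ((hQ _).2 ⟨0, e • z, by rw [← he, zero_smul, add_zero, mul_comm, mul_smul]⟩)
  letI mB : Module B (Ω[A⁄k] ⧸ Q) :=
    { smul := fun b z => sec b • z
      one_smul := fun z => (hann _ 1 (by rw [hsec, map_one]) z).trans (one_smul A z)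
      mul_smul := fun b b' z => (hann _ (sec b * sec b') (by rw [hsec, map_mul, hsec, hsec]) z).trans (mul_smul _ _ z)
      smul_zero := fun b => smul_zero (sec b)
      smul_add := fun b z z' => smul_add (sec b) z z'
      add_smul := fun b b' z => (hann _ (sec b + sec b') (by rw [hsec, map_add, hsec, hsec]) z).trans (add_smul _ _ z)
      zero_smul := fun z => (hann _ 0 (by rw [hsec, map_zero]) z).trans (zero_smul A z) }
  haveI : IsScalarTower A B (Ω[A⁄k] ⧸ Q) := ⟨fun a b z =>
    (hann _ (a * sec b) (by rw [hsec, Algebra.smul_def, map_mul, hsec]) z).trans (mul_smul a (sec b) z)⟩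
  haveI : IsScalarTower k B (Ω[A⁄k] ⧸ Q) := ⟨fun c b z => by
    refine (hann _ (algebraMap k A c * sec b)
      (by rw [hsec, Algebra.smul_def, map_mul, hsec, IsScalarTower.algebraMap_apply k A B]) z).trans ?_
    rw [mul_smul, algebraMap_smul]
    rfl⟩
  have hwd : ∀ a a', algebraMap A B a = algebraMap A B a' → Q.mkQ (D k A a) = Q.mkQ (D k A a') := fun a a' h => by
    rw [← sub_eq_zero, ← map_sub, ← map_sub]
    obtain ⟨e, he⟩ := Ideal.mem_span_singleton'.1 (hker ▸ (RingHom.mem_ker.2 (by rw [map_sub, h, sub_self]) :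
      a - a' ∈ RingHom.ker (algebraMap A B)))
    exact (Submodule.Quotient.mk_eq_zero _).2 ((hQ _).2 ⟨e, D k A e, by rw [← he, Derivation.leibniz, add_comm]⟩)
  let δ : Derivation k B (Ω[A⁄k] ⧸ Q) := Derivation.mk'
    { toFun := fun b => Q.mkQ (D k A (sec b))
      map_add' := fun b b' => by
        rw [← map_add, ← map_add]; exact hwd _ _ (by rw [hsec, map_add, hsec, hsec])
      map_smul' := fun c b => by
        rw [RingHom.id_apply]
        refine (hwd _ (c • sec b) (by rw [hsec, Algebra.smul_def, Algebra.smul_def, map_mul, hsec,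
          IsScalarTower.algebraMap_apply k A B])).trans ?_
        rw [Derivation.map_smul]
        rfl }
    fun b b' => (hwd _ (sec b * sec b') (by rw [hsec, map_mul, hsec, hsec])).trans (by
      rw [Derivation.leibniz, map_add, map_smul, map_smul]; rfl)
  have hinv : ∀ x, δ.liftKaehlerDifferential (ρ x) = Q.mkQ x := by
    intro x
    have hx : x ∈ Submodule.span A (Set.range (D k A)) := by rw [span_range_derivation]; trivial
    induction hx using Submodule.span_induction with
    | mem x hx =>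
      obtain ⟨a, rfl⟩ := hx
      rw [hρ, Derivation.liftKaehlerDifferential_comp_D]
      exact hwd _ _ (hsec _)
    | zero => simp only [map_zero]
    | add a b _ _ ha hb => simp only [map_add, ha, hb]
    | smul c y _ hy => rw [map_smul ρ, LinearMap.map_smul_of_tower δ.liftKaehlerDifferential c, hy, map_smul]
  refine ⟨fun y => ?_, fun x => ⟨fun h => (hQ x).1 ?_, fun h => hρQ x ((hQ x).2 h)⟩⟩
  · have hy : y ∈ Submodule.span B (Set.range (D k B)) := by rw [span_range_derivation]; trivial
    induction hy using Submodule.span_induction with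
    | mem y hy =>
      obtain ⟨b, rfl⟩ := hy
      exact ⟨D k A (sec b), by rw [hρ, hsec]⟩
    | zero => exact ⟨0, map_zero _⟩
    | add a b _ _ ha hb =>
      obtain ⟨x, rfl⟩ := ha; obtain ⟨x', rfl⟩ := hb
      exact ⟨x + x', map_add _ _ _⟩
    | smul c z _ hz =>
      obtain ⟨x, rfl⟩ := hz
      exact ⟨sec c • x, by rw [map_smul, ← algebraMap_smul B (sec c) (ρ x), hsec]⟩
  · rw [← Submodule.Quotient.mk_eq_zero]
    exact (hinv x).symm.trans (by rw [h, map_zero])

end Groth.Agent.H44Adj
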