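import Groth.Agent.H44Hyper.QCohExt
import Groth.Prelude.Def_ExtPow2
import Mathlib.RingTheory.Ideal.Operations

/-! # Exterior powers of quasi-coherent modules exist -/

universe u

open CategoryTheory CategoryTheory.Limits AlgebraicGeometry TopologicalSpace Opposite exteriorPower

set_option linter.style.haveILetI false
set_option backward.isDefEq.respectTransparency false

namespace Groth.Agent.H44Adj

open Groth.Agent.AModX
open Groth.Agent.H44Hyper (extLoc extLoc_ιMulti extLoc_surj extLoc_eq_zero)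

variable {X : Scheme.{u}} (E : X.Modules) (i : ℕ)

/-- The exterior power of the sections over an affine open. -/
abbrev EM (V : X.affineOpens) : Type u := ↥(⋀[Γ(X, V.1)]^i Γ(E, V.1))

/-- The restriction of exterior powers of sections. -/
noncomputable def rMap {V V' : X.affineOpens} (h : V'.1 ≤ V.1) : EM E i V →+ EM E i V' :=
  letI := (resR (X := X) h).toAlgebra
  letI : Module Γ(X, V.1) Γ(E, V'.1) := Module.compHom _ (resR (X := X) h)
  haveI : IsScalarTower Γ(X, V.1) Γ(X, V'.1) Γ(E, V'.1) := ⟨fun a b x => mul_smul (resR h a) b x⟩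
  (extLoc Γ(X, V'.1) ({ toFun := res E h, map_add' := map_add _, map_smul' := res_smul _ } :
    Γ(E, V.1) →ₗ[Γ(X, V.1)] Γ(E, V'.1)) i).toAddMonoidHom

variable {E i}

theorem rMap_ιMulti {V V' : X.affineOpens} (h : V'.1 ≤ V.1) (e : Fin i → Γ(E, V.1)) :
    rMap E i h (ιMulti Γ(X, V.1) i e) = ιMulti Γ(X, V'.1) i fun j => res E h (e j) := by
  letI := (resR (X := X) h).toAlgebra
  letI : Module Γ(X, V.1) Γ(E, V'.1) := Module.compHom _ (resR (X := X) h)
  haveI : IsScalarTower Γ(X, V.1) Γ(X, V'.1) Γ(E, V'.1) := ⟨fun a b x => mul_smul (resR h a) b x⟩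
  exact extLoc_ιMulti _ i e

theorem rMap_smul {V V' : X.affineOpens} (h : V'.1 ≤ V.1) (r : Γ(X, V.1)) (z : EM E i V) :
    rMap E i h (r • z) = resR h r • rMap E i h z := by
  letI := (resR (X := X) h).toAlgebra
  letI : Module Γ(X, V.1) Γ(E, V'.1) := Module.compHom _ (resR (X := X) h)
  haveI : IsScalarTower Γ(X, V.1) Γ(X, V'.1) Γ(E, V'.1) := ⟨fun a b x => mul_smul (resR h a) b x⟩
  show extLoc Γ(X, V'.1) _ i (r • z) = _
  rw [map_smul, ← algebraMap_smul Γ(X, V'.1) r]
  rfl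

theorem rMap_eq {V V' : X.affineOpens} (φ ψ : EM E i V →+ EM E i V') (σ : Γ(X, V.1) → Γ(X, V'.1))
    (hφ : ∀ r z, φ (r • z) = σ r • φ z) (hψ : ∀ r z, ψ (r • z) = σ r • ψ z)
    (h : ∀ e, φ (ιMulti _ i e) = ψ (ιMulti _ i e)) (z : EM E i V) : φ z = ψ z := by
  have hz : z ∈ Submodule.span Γ(X, V.1) (Set.range (ιMulti Γ(X, V.1) i (M := Γ(E, V.1)))) := by
    rw [ιMulti_span]; trivial
  induction hz using Submodule.span_induction with
  | mem y hy => obtain ⟨e, rfl⟩ := hy; exact h e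
  | zero => rw [map_zero, map_zero]
  | add a b _ _ ha hb => rw [map_add, map_add, ha, hb]
  | smul r a _ ha => rw [hφ, hψ, ha]

theorem rMap_rMap {V V' V'' : X.affineOpens} (h : V'.1 ≤ V.1) (h' : V''.1 ≤ V'.1) (z : EM E i V) :
    rMap E i h' (rMap E i h z) = rMap E i (h'.trans h) z :=
  rMap_eq ((rMap E i h').comp (rMap E i h)) _ (resR (h'.trans h))
    (fun r z => by
      rw [AddMonoidHom.comp_apply, rMap_smul, rMap_smul, resR_resR]
      rfl)
    (fun r z => rMap_smul _ r z)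
    (fun e => by
      rw [AddMonoidHom.comp_apply, rMap_ιMulti, rMap_ιMulti, rMap_ιMulti]
      simp only [res_res]) z

theorem rMap_self {V : X.affineOpens} (h : V.1 ≤ V.1) (z : EM E i V) : rMap E i h z = z :=
  rMap_eq (rMap E i h) (AddMonoidHom.id _) id
    (fun r z => by
      rw [rMap_smul, show resR h r = r by simp [resR]]; rfl)
    (fun r z => rfl)
    (fun e => by rw [rMap_ιMulti]; simp only [res_self]; rfl) z

theorem isUnit_pow {V : X.affineOpens} (g : Γ(X, V.1)) (n : ℕ) :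
    IsUnit (resR (X.basicOpen_le g) g ^ n) :=
  (isUnit_resR (X.basicOpen_le g) g le_rfl).pow n

/-- A basic open as an affine open. -/
abbrev bo (V : X.affineOpens) (g : Γ(X, V.1)) : X.affineOpens := ⟨X.basicOpen g, V.2.basicOpen g⟩

variable (hE : Coh.IsQCoh E)

include hE in
/-- Exterior powers on a basic open are localisations. -/
theorem localize (V : X.affineOpens) (g : Γ(X, V.1)) :
    (∀ y : EM E i (bo V g), ∃ (n : ℕ) (x : EM E i V),
      rMap E i (V' := (bo V g)) (X.basicOpen_le g) x =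
        resR (X.basicOpen_le g) g ^ n • y) ∧
    (∀ x : EM E i V, rMap E i (V' := (bo V g)) (X.basicOpen_le g) x = 0 →
      ∃ n : ℕ, g ^ n • x = 0) := by
  letI alg : Algebra Γ(X, V.1) Γ(X, X.basicOpen g) := (resR (X.basicOpen_le g)).toAlgebra
  haveI : IsLocalization (Submonoid.powers g) Γ(X, X.basicOpen g) := V.2.isLocalization_basicOpen g
  letI m₁ : Module Γ(X, V.1) Γ(E, X.basicOpen g) := Module.compHom _ (resR (X.basicOpen_le g))
  haveI : IsScalarTower Γ(X, V.1) Γ(X, X.basicOpen g) Γ(E, X.basicOpen g) :=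
    ⟨fun a b x => mul_smul (resR (X.basicOpen_le g) a) b x⟩
  let rE : Γ(E, V.1) →ₗ[Γ(X, V.1)] Γ(E, X.basicOpen g) :=
    { toFun := res E (X.basicOpen_le g)
      map_add' := map_add _
      map_smul' := res_smul _ }
  haveI : IsLocalizedModule (Submonoid.powers g) rE := by
    refine IsLocalizedModule.Away.mk_of_addCommGroup ?_ (fun s => ?_) (fun x hx => ?_)
    · obtain ⟨u, hu⟩ := IsLocalization.map_units Γ(X, X.basicOpen g)
        (⟨g, Submonoid.mem_powers g⟩ : Submonoid.powers g)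
      refine (Module.End.isUnit_iff _).2 (Function.bijective_iff_has_inverse.2
        ⟨fun z => (↑u⁻¹ : Γ(X, X.basicOpen g)) • z, fun z => ?_, fun z => ?_⟩)
      · simp only [Module.algebraMap_end_apply]
        rw [← IsScalarTower.algebraMap_smul Γ(X, X.basicOpen g) g z, ← hu, smul_smul, Units.inv_mul, one_smul]
      · simp only [Module.algebraMap_end_apply]
        rw [← IsScalarTower.algebraMap_smul Γ(X, X.basicOpen g) g (((↑u⁻¹ : Γ(X, X.basicOpen g))) • z), ← hu,
          smul_smul, Units.mul_inv, one_smul]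
    · obtain ⟨n, t, ht⟩ := QCoh.exists_pow_smul_eq_map hE V.2 g s
      refine ⟨n, t, ?_⟩
      refine Eq.trans ?_ ht.symm
      exact congrArg (· • s) (map_pow (resR (X.basicOpen_le g)) g n)
    · exact QCoh.exists_pow_smul_eq_zero hE V.2 g x hx
  refine ⟨fun y => ?_, fun x hx => ?_⟩
  · obtain ⟨⟨_, n, rfl⟩, x, hx⟩ := extLoc_surj (Submonoid.powers g) rE i y
    refine ⟨n, x, hx.symm.trans ?_⟩
    rw [← IsScalarTower.algebraMap_smul Γ(X, X.basicOpen g) (g ^ n) y, map_pow]
    rfl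
  · obtain ⟨⟨_, n, rfl⟩, hn⟩ := extLoc_eq_zero (Submonoid.powers g) rE i x hx
    exact ⟨n, hn⟩

attribute [local irreducible] rMap

include hE in
theorem eq_of_basicOpen {V : X.affineOpens} {s : Set Γ(X, V.1)} (hs : Ideal.span s = ⊤) {z z' : EM E i V}
    (h : ∀ g ∈ s, rMap E i (V' := (bo V g)) (X.basicOpen_le g) z =
      rMap E i (V' := (bo V g)) (X.basicOpen_le g) z') : z = z' := by
  rw [← sub_eq_zero]
  let I : Ideal Γ(X, V.1) := (Submodule.span Γ(X, V.1) {z - z'}).annihilator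
  have hI : I.radical = ⊤ := top_le_iff.1 (hs ▸ Ideal.span_le.2 fun g hg => by
    obtain ⟨n, hn⟩ := (localize hE V g).2 (z - z') (by rw [map_sub, h g hg, sub_self])
    exact ⟨n, (Submodule.mem_annihilator_span_singleton _ _).2 hn⟩)
  have h1 : (1 : Γ(X, V.1)) ∈ I := by rw [Ideal.radical_eq_top] at hI; rw [hI]; trivial
  have := (Submodule.mem_annihilator_span_singleton _ _).1 h1
  rwa [one_smul] at this

include hE in
theorem eq_of_locallyE {V : X.affineOpens} {z z' : EM E i V}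
    (h : ∀ p ∈ V.1, ∃ (V' : X.affineOpens) (hV : V'.1 ≤ V.1), p ∈ V'.1 ∧ rMap E i hV z = rMap E i hV z') :
    z = z' := by
  refine eq_of_basicOpen hE (s := {g | rMap E i (V' := (bo V g)) (X.basicOpen_le g) z =
      rMap E i (V' := (bo V g)) (X.basicOpen_le g) z'}) ?_ fun g hg => hg
  refine V.2.self_le_iSup_basicOpen_iff.1 fun p hp => ?_
  obtain ⟨V', hV, hpV', he⟩ := h p hp
  obtain ⟨g, hg, hpg⟩ := V.2.exists_basicOpen_le ⟨p, hpV'⟩ hp
  refine Opens.mem_iSup.2 ⟨⟨g, ?_⟩, hpg⟩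
  show rMap E i _ z = rMap E i _ z'
  rw [← rMap_rMap hV (show (bo V g).1 ≤ V'.1 from hg), he, rMap_rMap]

theorem rMap_pow_eq {V D : X.affineOpens} {g : Γ(X, V.1)} (h : D.1 ≤ (bo V g).1) (hD : D.1 ≤ V.1) (N : ℕ)
    {x : EM E i V} {z : EM E i (bo V g)}
    (hx : rMap E i (V' := bo V g) (X.basicOpen_le g) x = resR (X.basicOpen_le g) g ^ N • z) :
    rMap E i hD x = resR hD g ^ N • rMap E i h z := by
  have e1 : rMap E i h (rMap E i (V' := bo V g) (X.basicOpen_le g) x) = rMap E i hD x := rMap_rMap _ _ _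
  rw [← e1, hx, rMap_smul, map_pow, resR_resR]

theorem overlap {V D : X.affineOpens} {g g' : Γ(X, V.1)} (hD : D.1 ≤ V.1) (h : D.1 ≤ (bo V g).1)
    (h' : D.1 ≤ (bo V g').1) (N : ℕ) {x x' : EM E i V} {z : EM E i (bo V g)} {z' : EM E i (bo V g')}
    (hx : rMap E i (V' := bo V g) (X.basicOpen_le g) x = resR (X.basicOpen_le g) g ^ N • z)
    (hx' : rMap E i (V' := bo V g') (X.basicOpen_le g') x' = resR (X.basicOpen_le g') g' ^ N • z')
    (hz : rMap E i h z = rMap E i h' z') :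
    rMap E i hD (g' ^ N • x - g ^ N • x') = 0 := by
  rw [map_sub, rMap_smul, rMap_smul, rMap_pow_eq h hD N hx, rMap_pow_eq h' hD N hx', hz, sub_eq_zero,
    map_pow, map_pow, smul_smul, smul_smul, mul_comm]

include hE in
theorem exists_glueE {V : X.affineOpens} (s : Finset Γ(X, V.1)) (hs : Ideal.span (s : Set Γ(X, V.1)) = ⊤)
    (z : ∀ g : s, EM E i (bo V g.1))
    (hz : ∀ (g g' : s) (D : X.affineOpens) (h : D.1 ≤ X.basicOpen g.1) (h' : D.1 ≤ X.basicOpen g'.1),
      rMap E i h (z g) = rMap E i h' (z g')) :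
    ∃ y : EM E i V, ∀ g : s, rMap E i (V' := (bo V g.1)) (X.basicOpen_le g.1) y = z g := by
  classical
  choose n x hx using fun g : s => (localize hE V g.1).1 (z g)
  let N := Finset.univ.sup n
  have hex : ∀ g : s, ∃ x' : EM E i V, rMap E i (V' := (bo V g.1)) (X.basicOpen_le g.1) x' =
      resR (X.basicOpen_le g.1) g.1 ^ N • z g := fun g => by
    refine ⟨g.1 ^ (N - n g) • x g, ?_⟩
    rw [rMap_smul, hx, smul_smul, map_pow, ← pow_add, Nat.sub_add_cancel (Finset.le_sup (Finset.mem_univ g))]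
  choose x' hx' using hex
  have hK : ∀ q : s × s, ∃ K : ℕ, (q.1.1 * q.2.1) ^ K • (q.2.1 ^ N • x' q.1 - q.1.1 ^ N • x' q.2) = 0 := by
    rintro ⟨g, g'⟩
    refine (localize hE V (g.1 * g'.1)).2 _ ?_
    have h1 : (bo V (g.1 * g'.1)).1 ≤ (bo V g.1).1 := (X.basicOpen_mul g.1 g'.1).le.trans inf_le_left
    have h2 : (bo V (g.1 * g'.1)).1 ≤ (bo V g'.1).1 := (X.basicOpen_mul g.1 g'.1).le.trans inf_le_right
    exact overlap _ h1 h2 N (hx' g) (hx' g') (hz g g' _ h1 h2)
  choose K hK using hK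
  let M := Finset.univ.sup K
  have hkey : ∀ g g' : s, g'.1 ^ (N + M) • (g.1 ^ M • x' g) = g.1 ^ (N + M) • (g'.1 ^ M • x' g') := fun g g' => by
    have h : (g.1 * g'.1) ^ M • (g'.1 ^ N • x' g - g.1 ^ N • x' g') = 0 := by
      obtain ⟨j, hj⟩ := Nat.le.dest (Finset.le_sup (f := K) (Finset.mem_univ (g, g')) : K (g, g') ≤ M)
      rw [show M = j + K (g, g') from hj.symm.trans (add_comm _ _), pow_add, mul_smul]
      exact (congrArg _ (hK (g, g'))).trans (smul_zero _)
    rw [smul_sub, sub_eq_zero, smul_smul, smul_smul] at h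
    rw [smul_smul, smul_smul]
    refine Eq.trans ?_ (h.trans ?_) <;> congr 1 <;> ring
  have htop : Ideal.span (Set.range fun g : s => g.1 ^ (N + M)) = ⊤ := by
    have := Ideal.span_pow_eq_top _ hs (N + M)
    rwa [Set.image_eq_range] at this
  obtain ⟨c, hc⟩ := Ideal.mem_span_range_iff_exists_fun.1
    (show (1 : Γ(X, V.1)) ∈ _ from htop ▸ Submodule.mem_top)
  refine ⟨∑ g : s, c g • g.1 ^ M • x' g, fun g' => ?_⟩
  apply (isUnit_pow g'.1 (N + M)).smul_left_cancel.1
  have h1 : g'.1 ^ (N + M) • (∑ g : s, c g • g.1 ^ M • x' g) = g'.1 ^ M • x' g' := by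
    rw [Finset.smul_sum]
    conv_rhs => rw [← one_smul Γ(X, V.1) (g'.1 ^ M • x' g'), ← hc, Finset.sum_smul]
    exact Finset.sum_congr rfl fun g _ => by rw [smul_comm, hkey, smul_smul]
  have hs : ∀ (a : Γ(X, V.1)) (w : EM E i V), rMap E i (V' := bo V g'.1) (X.basicOpen_le g'.1) (a • w) =
      resR (X.basicOpen_le g'.1) a • rMap E i (V' := bo V g'.1) (X.basicOpen_le g'.1) w := fun a w => rMap_smul _ a w
  have h2 := congrArg (rMap E i (V' := bo V g'.1) (X.basicOpen_le g'.1)) h1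
  rw [hs, hs, map_pow, map_pow] at h2
  refine h2.trans ?_
  rw [hx', smul_smul, ← pow_add, add_comm]

variable (E i)

/-- Families over the affine opens inside. -/
abbrev Fam (W : X.Opens) : Type u := ∀ V : {V : X.affineOpens // V.1 ≤ W}, EM E i V.1

/-- The compatible families. -/
def egrp (W : X.Opens) : AddSubgroup (Fam E i W) where
  carrier := {a | ∀ (V V' : {V : X.affineOpens // V.1 ≤ W}) (h : V'.1.1 ≤ V.1.1), rMap E i h (a V) = a V'}
  add_mem' := fun {a b} ha hb V V' h => by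
    show rMap E i h (a V + b V) = a V' + b V'
    rw [map_add, ha V V' h, hb V V' h]
  zero_mem' := fun V V' h => map_zero _
  neg_mem' := fun {a} ha V V' h => by
    show rMap E i h (-(a V)) = -(a V')
    rw [map_neg, ha V V' h]

variable {E i}

theorem egrp_ext {W : X.Opens} {a b : egrp E i W} (h : ∀ V, a.1 V = b.1 V) : a = b :=
  Subtype.ext (funext h)

noncomputable instance instModuleE (W : X.Opens) : Module Γ(X, W) (egrp E i W) where
  smul t a := ⟨fun V => resR V.2 t • a.1 V, fun V V' h => by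
    show rMap E i h (_ • _) = _
    rw [rMap_smul, resR_resR, a.2 V V' h]⟩
  one_smul a := egrp_ext fun V => by show resR V.2 1 • a.1 V = _; rw [map_one, one_smul]
  mul_smul t t' a := egrp_ext fun V => by
    show resR V.2 (t * t') • a.1 V = resR V.2 t • (resR V.2 t' • a.1 V)
    rw [map_mul, mul_smul]
  smul_zero t := egrp_ext fun V => by show resR V.2 t • (0 : EM E i V.1) = 0; rw [smul_zero]
  smul_add t a b := egrp_ext fun V => by
    show resR V.2 t • (a.1 V + b.1 V) = resR V.2 t • a.1 V + resR V.2 t • b.1 V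
    rw [smul_add]
  add_smul t t' a := egrp_ext fun V => by
    show resR V.2 (t + t') • a.1 V = resR V.2 t • a.1 V + resR V.2 t' • a.1 V
    rw [map_add, add_smul]
  zero_smul a := egrp_ext fun V => by show resR V.2 0 • a.1 V = 0; rw [map_zero, zero_smul]

/-- Restriction of families. -/
noncomputable def eres {W W' : X.Opens} (h : W' ≤ W) : egrp E i W →+ egrp E i W' where
  toFun a := ⟨fun V => a.1 ⟨V.1, V.2.trans h⟩, fun V V' h' => a.2 ⟨V.1, V.2.trans h⟩ ⟨V'.1, V'.2.trans h⟩ h'⟩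
  map_zero' := rfl
  map_add' _ _ := rfl

variable (E i)

/-- The presheaf of compatible families. -/
noncomputable def epsh : (X.Opens)ᵒᵖ ⥤ Ab.{u} where
  obj W := AddCommGrpCat.of (egrp E i W.unop)
  map {W W'} j := AddCommGrpCat.ofHom (eres j.unop.le)
  map_id W := rfl
  map_comp j j' := rfl

noncomputable instance (W : (X.Opens)ᵒᵖ) : Module (X.ringCatSheaf.obj.obj W) ((epsh E i).obj W) :=
  inferInstanceAs (Module Γ(X, W.unop) (egrp E i W.unop))

/-- Compatible families as a presheaf of modules. -/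
noncomputable def epmod : X.PresheafOfModules :=
  PresheafOfModules.ofPresheaf (R := X.ringCatSheaf.obj) (epsh E i) fun W W' j t a =>
    egrp_ext fun V => by
      show resR _ (show Γ(X, W.unop) from t) • _ = resR _ (resR _ (show Γ(X, W.unop) from t)) • _
      rw [resR_resR]
      rfl

include hE in
theorem isSheaf_epmod : Presheaf.IsSheaf (Opens.grothendieckTopology X) (epmod E i).presheaf := by
  classical
  refine (TopCat.Presheaf.isSheaf_iff_isSheafUniqueGluing (X := X.toPresheafedSpace.carrier)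
    (epsh E i)).2 fun J W sf hsf => ?_
  let val : ∀ (j : J) (V : X.affineOpens), V.1 ≤ W j → EM E i V := fun j V h =>
    (show egrp E i (W j) from sf j).1 ⟨V, h⟩
  have hval : ∀ (j j' : J) (V : X.affineOpens) (h : V.1 ≤ W j) (h' : V.1 ≤ W j'), val j V h = val j' V h' :=
    fun j j' V h h' => congrArg (fun a : egrp E i (W j ⊓ W j') => a.1 ⟨V, le_inf h h'⟩) (hsf j j')
  have hres : ∀ (j : J) (V V' : X.affineOpens) (h : V.1 ≤ W j) (h' : V'.1 ≤ V.1),
      rMap E i h' (val j V h) = val j V' (h'.trans h) := fun j V V' h h' =>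
    (show egrp E i (W j) from sf j).2 ⟨V, h⟩ ⟨V', h'.trans h⟩ h'
  have hglue : ∀ V : {V : X.affineOpens // V.1 ≤ iSup W}, ∃ y : EM E i V.1, ∀ (j : J) (V' : X.affineOpens)
      (h : V'.1 ≤ V.1.1) (hj : V'.1 ≤ W j), rMap E i h y = val j V' hj := by
    rintro ⟨V, hV⟩
    have hcov : Ideal.span {g : Γ(X, V.1) | ∃ j, X.basicOpen g ≤ W j} = ⊤ := by
      refine V.2.self_le_iSup_basicOpen_iff.1 fun p hp => ?_
      obtain ⟨j, hj⟩ := Opens.mem_iSup.1 (hV hp)
      obtain ⟨g, hg, hpg⟩ := V.2.exists_basicOpen_le ⟨p, hj⟩ hp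
      exact Opens.mem_iSup.2 ⟨⟨g, j, hg⟩, hpg⟩
    obtain ⟨s, hs, hspan⟩ := (Ideal.span_eq_top_iff_finite _).1 hcov
    choose j hj using fun g : s => hs g.2
    obtain ⟨y, hy⟩ := exists_glueE hE s hspan (fun g => val (j g) (bo V g.1) (hj g))
      fun g g' D h h' => by rw [hres, hres]; exact hval _ _ _ _ _
    refine ⟨y, fun k V' h hk => eq_of_locallyE hE fun p hp => ?_⟩
    have hpV := h hp
    obtain ⟨g, hpg⟩ := Opens.mem_iSup.1 (V.2.self_le_iSup_basicOpen_iff.2 hspan hpV)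
    obtain ⟨a, ha, hpa⟩ := V'.2.exists_basicOpen_le ⟨p, hpg⟩ hp
    refine ⟨(bo V' a), X.basicOpen_le a, hpa, ?_⟩
    rw [rMap_rMap, hres, ← rMap_rMap (X.basicOpen_le g.1) (show (bo V' a).1 ≤ (bo V g.1).1 from ha), hy, hres]
    exact hval _ _ _ _ _
  choose y hy using hglue
  refine ⟨(⟨y, fun V V' h => eq_of_locallyE hE fun p hp => ?_⟩ : egrp E i (iSup W)), fun j => egrp_ext fun V => ?_,
    fun t ht => egrp_ext fun V => eq_of_locallyE hE fun p hp => ?_⟩
  · obtain ⟨j, hj⟩ := Opens.mem_iSup.1 (V'.2 hp)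
    obtain ⟨a, ha, hpa⟩ := V'.1.2.exists_basicOpen_le ⟨p, hj⟩ hp
    refine ⟨(bo V'.1 a), X.basicOpen_le a, hpa, ?_⟩
    rw [rMap_rMap, hy V j _ _ ha, hy V' j _ _ ha]
  · have := hy ⟨V.1, V.2.trans (le_iSup W j)⟩ j V.1 le_rfl V.2
    rw [rMap_self] at this
    exact this
  · obtain ⟨j, hj⟩ := Opens.mem_iSup.1 (V.2 hp)
    obtain ⟨a, ha, hpa⟩ := V.1.2.exists_basicOpen_le ⟨p, hj⟩ hp
    let D : X.affineOpens := (bo V.1 a)
    refine ⟨D, X.basicOpen_le a, hpa, ?_⟩
    show _ = rMap E i _ (y V)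
    rw [hy V j D _ ha, (show egrp E i (iSup W) from t).2 V ⟨D, (X.basicOpen_le a).trans V.2⟩]
    exact congrArg (fun b : egrp E i (W j) => b.1 ⟨D, ha⟩) (ht j)

include hE in
/-- Exterior powers of quasi-coherent modules exist. -/
theorem exists_isExtPow : ∃ L : X.Modules, ExtPow.IsExtPow i E L := by
  let L : X.Modules := ⟨epmod E i, isSheaf_epmod E i hE⟩
  let fromM : ∀ U : X.affineOpens, EM E i U → egrp E i U.1 := fun U z =>
    ⟨fun V => rMap E i V.2 z, fun V V' h => rMap_rMap V.2 h z⟩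
  let φ : ∀ U : X.affineOpens, egrp E i U.1 ≃ₗ[Γ(X, U.1)] EM E i U := fun U =>
    { toFun := fun a => a.1 ⟨U, le_rfl⟩
      map_add' := fun _ _ => rfl
      map_smul' := fun t a => by
        show resR le_rfl t • a.1 ⟨U, le_rfl⟩ = t • a.1 ⟨U, le_rfl⟩
        simp [resR]
      invFun := fromM U
      left_inv := fun a => egrp_ext fun V => a.2 ⟨U, le_rfl⟩ V V.2
      right_inv := fun z => rMap_self le_rfl z }
  refine ⟨L, fun U => φ U, fun U V h e => ?_⟩
  show eres h (fromM U (ιMulti _ i e)) = fromM V _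
  refine egrp_ext fun T => ?_
  show rMap E i (T.2.trans h) _ = rMap E i T.2 _
  rw [← rMap_rMap h T.2, rMap_ιMulti]
  rfl

end Groth.Agent.H44Adj
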