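import Groth.Agent.H44Adj.Chart
import Groth.Agent.H44Adj.ExtExists

/-! # Forms on a hypersurface, on affine opens -/

universe u

open CategoryTheory CategoryTheory.Limits AlgebraicGeometry TopologicalSpace Opposite exteriorPower

set_option linter.style.haveILetI false
set_option backward.isDefEq.respectTransparency false
set_option backward.isDefEq.respectTransparency.types false

namespace Groth.Agent.H44Adj

open Groth.Agent.AModX
open Groth.Agent.H44Hyper (extLoc extLoc_ιMulti)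

/-- Semilinear additive maps out of an exterior power agree when they agree on decomposable forms. -/
theorem extHom_ext {A B P M : Type u} [CommRing A] [AddCommGroup P] [Module A P] [AddCommGroup M] [SMul B M] {c : ℕ}
    (φ ψ : ↥(⋀[A]^c P) →+ M) (σ : A → B) (hφ : ∀ r z, φ (r • z) = σ r • φ z) (hψ : ∀ r z, ψ (r • z) = σ r • ψ z)
    (h : ∀ e, φ (ιMulti A c e) = ψ (ιMulti A c e)) (z : ↥(⋀[A]^c P)) : φ z = ψ z := by
  have hz : z ∈ Submodule.span A (Set.range (ιMulti A c (M := P))) := by rw [ιMulti_span]; trivial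
  induction hz using Submodule.span_induction with
  | mem y hy => obtain ⟨e, rfl⟩ := hy; exact h e
  | zero => rw [map_zero, map_zero]
  | add a b _ _ ha hb => rw [map_add, map_add, ha, hb]
  | smul r a _ ha => rw [hφ, hψ, ha]

/-- An exterior power with identifications commuting with restriction. -/
structure EP {X : Scheme.{u}} (c : ℕ) (E L : X.Modules) : Type u where
  /-- The identification. -/
  φ : ∀ U : X.affineOpens, Γ(L, U.1) ≃ₗ[Γ(X, U.1)] EM E c U
  res_symm : ∀ (U V : X.affineOpens) (h : V.1 ≤ U.1) (z : EM E c U),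
    res L h ((φ U).symm z) = (φ V).symm (rMap E c h z)

theorem exists_ep {X : Scheme.{u}} {c : ℕ} {E L : X.Modules} (hL : ExtPow.IsExtPow c E L) : Nonempty (EP c E L) := by
  obtain ⟨φ, hφ⟩ := hL
  let φ' : ∀ U : X.affineOpens, Γ(L, U.1) ≃ₗ[Γ(X, U.1)] EM E c U := φ
  refine ⟨⟨φ', fun U V h z => ?_⟩⟩
  refine extHom_ext (B := Γ(X, V.1)) ((res L h).comp (φ' U).symm.toLinearMap.toAddMonoidHom)
    ((φ' V).symm.toLinearMap.toAddMonoidHom.comp (rMap E c h)) (resR h) (fun r z => ?_) (fun r z => ?_) (fun e => ?_) z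
  · show res L h ((φ' U).symm (r • z)) = resR h r • res L h ((φ' U).symm z)
    rw [map_smul, res_smul]
  · show (φ' V).symm (rMap E c h (r • z)) = resR h r • (φ' V).symm (rMap E c h z)
    rw [rMap_smul, map_smul]
  · show res L h ((φ' U).symm (ιMulti _ c e)) = (φ' V).symm (rMap E c h (ιMulti _ c e))
    rw [rMap_ιMulti]
    exact hφ U V h e

theorem isQCoh_ep {X : Scheme.{u}} {c : ℕ} {E L : X.Modules} (hE : Coh.IsQCoh E) (hL : ExtPow.IsExtPow c E L) :
    Coh.IsQCoh L := by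
  obtain ⟨φ, hφ⟩ := hL
  exact H44Hyper.isQCoh_extPow c hE φ hφ

variable {k : Type u} [Field k] {X : Scheme.{u}} (f : X ⟶ Spec (CommRingCat.of k)) [QuasiSeparated f]
  (I : X.IdealSheafData) [QuasiSeparated (I.subschemeι ≫ f)]

/-- The affine preimage in the subscheme. -/
noncomputable abbrev pre (U : X.affineOpens) : I.subscheme.affineOpens := ⟨I.subschemeι ⁻¹ᵁ U.1, U.2.preimage I.subschemeι⟩

theorem pre_mono {U V : X.affineOpens} (h : V.1 ≤ U.1) : (pre I V).1 ≤ (pre I U).1 :=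
  I.subschemeι.preimage_mono h

/-- Forms on an affine open of `X`. -/
abbrev FX (c : ℕ) (U : X.affineOpens) : Type u := EM (Omega.sheaf f) c U

/-- Forms on an affine open of the subscheme. -/
abbrev FY (c : ℕ) (U : X.affineOpens) : Type u := EM (Omega.sheaf (I.subschemeι ≫ f)) c (pre I U)

/-- The reduction of forms. -/
noncomputable def RF (c : ℕ) (U : X.affineOpens) : FX f c U →+ FY f I c U :=
  letI := (I.subschemeι.app U.1).hom.toAlgebra
  letI : Module Γ(X, U.1) Γ(Omega.sheaf (I.subschemeι ≫ f), I.subschemeι ⁻¹ᵁ U.1) :=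
    Module.compHom _ (I.subschemeι.app U.1).hom
  haveI : IsScalarTower Γ(X, U.1) Γ(I.subscheme, I.subschemeι ⁻¹ᵁ U.1)
      Γ(Omega.sheaf (I.subschemeι ≫ f), I.subschemeι ⁻¹ᵁ U.1) := ⟨fun a b x => mul_smul (I.subschemeι.app U.1 a) b x⟩
  (extLoc Γ(I.subscheme, I.subschemeι ⁻¹ᵁ U.1)
    ({ toFun := ρS f I U.1, map_add' := map_add _, map_smul' := ρS_smul f I U.1 } :
      Γ(Omega.sheaf f, U.1) →ₗ[Γ(X, U.1)] Γ(Omega.sheaf (I.subschemeι ≫ f), I.subschemeι ⁻¹ᵁ U.1)) c).toAddMonoidHom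

theorem RF_ιMulti {c : ℕ} {U : X.affineOpens} (e : Fin c → Γ(Omega.sheaf f, U.1)) :
    RF f I c U (ιMulti _ c e) = ιMulti _ c fun j => ρS f I U.1 (e j) := by
  letI := (I.subschemeι.app U.1).hom.toAlgebra
  letI : Module Γ(X, U.1) Γ(Omega.sheaf (I.subschemeι ≫ f), I.subschemeι ⁻¹ᵁ U.1) :=
    Module.compHom _ (I.subschemeι.app U.1).hom
  haveI : IsScalarTower Γ(X, U.1) Γ(I.subscheme, I.subschemeι ⁻¹ᵁ U.1)
      Γ(Omega.sheaf (I.subschemeι ≫ f), I.subschemeι ⁻¹ᵁ U.1) := ⟨fun a b x => mul_smul (I.subschemeι.app U.1 a) b x⟩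
  exact extLoc_ιMulti _ c e

theorem RF_smul {c : ℕ} {U : X.affineOpens} (r : Γ(X, U.1)) (z : FX f c U) :
    RF f I c U (r • z) = I.subschemeι.app U.1 r • RF f I c U z := by
  letI := (I.subschemeι.app U.1).hom.toAlgebra
  letI : Module Γ(X, U.1) Γ(Omega.sheaf (I.subschemeι ≫ f), I.subschemeι ⁻¹ᵁ U.1) :=
    Module.compHom _ (I.subschemeι.app U.1).hom
  haveI : IsScalarTower Γ(X, U.1) Γ(I.subscheme, I.subschemeι ⁻¹ᵁ U.1)
      Γ(Omega.sheaf (I.subschemeι ≫ f), I.subschemeι ⁻¹ᵁ U.1) := ⟨fun a b x => mul_smul (I.subschemeι.app U.1 a) b x⟩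
  show extLoc Γ(I.subscheme, I.subschemeι ⁻¹ᵁ U.1) _ c (r • z) = _
  rw [map_smul, ← algebraMap_smul Γ(I.subscheme, I.subschemeι ⁻¹ᵁ U.1) r]
  rfl

variable [Smooth (I.subschemeι ≫ f)]

/-- The properties of the reduction of forms on a chart. -/
theorem RF_chart {U : X.affineOpens} {g : Γ(X, U.1)} (hI : I.ideal U = Ideal.span {g})
    (hg : IsSMulRegular Γ(X, U.1) g) (c : ℕ) :
    Function.Surjective (RF f I c U) ∧
    (∀ z : FX f (c + 1) U, RF f I (c + 1) U z = 0 ↔ ∃ (y : FX f (c + 1) U) (x : FX f c U),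
      z = g • y + wedgeL ((OmegaSh.dOmega f).app U.1 g) c x) ∧
    (∀ x : FX f c U, (∃ w, wedgeL ((OmegaSh.dOmega f).app U.1 g) c x = g • w) ↔ RF f I c U x = 0) := by
  obtain ⟨hρ, hker, θ, hθs, hθ⟩ := chart f I hI hg
  letI := (I.subschemeι.app U.1).hom.toAlgebra
  letI : Module Γ(X, U.1) Γ(Omega.sheaf (I.subschemeι ≫ f), I.subschemeι ⁻¹ᵁ U.1) :=
    Module.compHom _ (I.subschemeι.app U.1).hom
  haveI : IsScalarTower Γ(X, U.1) Γ(I.subscheme, I.subschemeι ⁻¹ᵁ U.1)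
      Γ(Omega.sheaf (I.subschemeι ≫ f), I.subschemeι ⁻¹ᵁ U.1) := ⟨fun a b x => mul_smul (I.subschemeι.app U.1 a) b x⟩
  let ρ : Γ(Omega.sheaf f, U.1) →ₗ[Γ(X, U.1)] Γ(Omega.sheaf (I.subschemeι ≫ f), I.subschemeι ⁻¹ᵁ U.1) :=
    { toFun := ρS f I U.1, map_add' := map_add _, map_smul' := ρS_smul f I U.1 }
  let θ' : Γ(Omega.sheaf f, U.1) →ₗ[Γ(X, U.1)] Γ(I.subscheme, I.subschemeι ⁻¹ᵁ U.1) :=
    { toFun := θ, map_add' := map_add _, map_smul' := hθs }
  have hB : Function.Surjective (algebraMap Γ(X, U.1) Γ(I.subscheme, I.subschemeι ⁻¹ᵁ U.1)) :=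
    I.subschemeι_app_surjective U
  have hAB : RingHom.ker (algebraMap Γ(X, U.1) Γ(I.subscheme, I.subschemeι ⁻¹ᵁ U.1)) = Ideal.span {g} :=
    (I.ker_subschemeι_app U).trans hI
  have hg0 : algebraMap Γ(X, U.1) Γ(I.subscheme, I.subschemeι ⁻¹ᵁ U.1) g = 0 :=
    RingHom.mem_ker.1 (hAB ▸ Ideal.mem_span_singleton_self g)
  exact ⟨R_surjective (ρ := ρ) hB hρ c, fun z => R_eq_zero_iff (ρ := ρ) hB hρ hg0 hker z,
    fun x => wedgeL_mem_iff (ρ := ρ) hB hρ hg0 hker θ' hθ hAB x⟩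

variable {f I}

omit [Smooth (I.subschemeι ≫ f)] in
theorem RF_rMap {c : ℕ} {U V : X.affineOpens} (h : V.1 ≤ U.1) (z : FX f c U) :
    rMap _ c (pre_mono I h) (RF f I c U z) = RF f I c V (rMap _ c h z) := by
  refine extHom_ext (B := Γ(I.subscheme, (pre I V).1)) ((rMap _ c (pre_mono I h)).comp (RF f I c U))
    ((RF f I c V).comp (rMap _ c h)) (fun r => I.subschemeι.app V.1 (resR h r)) (fun r z => ?_) (fun r z => ?_)
    (fun e => ?_) z
  · rw [AddMonoidHom.comp_apply, AddMonoidHom.comp_apply, RF_smul, rMap_smul]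
    congr 1
    exact (congr($(I.subschemeι.naturality (homOfLE h).op) r)).symm
  · rw [AddMonoidHom.comp_apply, AddMonoidHom.comp_apply, rMap_smul, RF_smul]
  · rw [AddMonoidHom.comp_apply, AddMonoidHom.comp_apply, RF_ιMulti, rMap_ιMulti, rMap_ιMulti, RF_ιMulti]
    congr 1
    funext j
    exact (AModX.app_res (ρΩ f I) h (e j)).symm

omit [QuasiSeparated f] [QuasiSeparated (I.subschemeι ≫ f)] [Smooth (I.subschemeι ≫ f)] in
theorem rMap_wedgeL {c : ℕ} {U V : X.affineOpens} (h : V.1 ≤ U.1) (v : Γ(Omega.sheaf f, U.1)) (z : FX f c U) :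
    rMap _ (c + 1) h (wedgeL v c z) = wedgeL (res _ h v) c (rMap _ c h z) := by
  refine extHom_ext (B := Γ(X, V.1)) ((rMap _ (c + 1) h).comp (wedgeL v c).toAddMonoidHom)
    ((wedgeL (res _ h v) c).toAddMonoidHom.comp (rMap _ c h)) (resR h) (fun r z => ?_) (fun r z => ?_)
    (fun e => ?_) z
  · rw [AddMonoidHom.comp_apply, AddMonoidHom.comp_apply]
    show rMap _ _ h (wedgeL v c (r • z)) = _
    rw [map_smul, rMap_smul]
    rfl
  · show wedgeL (res _ h v) c (rMap _ c h (r • z)) = resR h r • wedgeL (res _ h v) c (rMap _ c h z)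
    rw [rMap_smul, map_smul]
  · show rMap _ _ h (wedgeL v c (ιMulti _ c e)) = wedgeL (res _ h v) c (rMap _ c h (ιMulti _ c e))
    rw [wedgeL_ιMulti, rMap_ιMulti, rMap_ιMulti, wedgeL_ιMulti]
    congr 1
    funext j
    refine Fin.cases ?_ (fun l => ?_) j
    · rfl
    · rfl

end Groth.Agent.H44Adj
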