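import Groth.Agent.H44Adj.Main
import Groth.Agent.CurveCohLib.Rank
import Groth.Agent.VarNef31.DegPush
import Groth.Agent.OmegaLib.IdealMod
import Groth.Agent.VarDepth.Basic
import Groth.Agent.InvX.GenLocusPull

/-! # Hodge numbers of a hypersurface below the middle dimension -/

universe u

open CategoryTheory CategoryTheory.Limits AlgebraicGeometry TopologicalSpace Opposite exteriorPower

attribute [local instance] HasDerivedCategory.standard

set_option linter.style.haveILetI false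
set_option backward.isDefEq.respectTransparency false
set_option backward.isDefEq.respectTransparency.types false

namespace Groth.Agent.H44Adj

open Groth.Agent.AModX Groth.Agent.InvX
open Groth.Agent.AmpleVan (tw mulSec)
open Groth.Agent.PnCoh.Finite (mapLin deltaLin)
open Groth.Agent.H23.PicMul

variable {k : Type u} [Field k] {X : Scheme.{u}} [X.Over (Spec (CommRingCat.of k))]

omit [X.Over (Spec (CommRingCat.of k))] in
theorem iso_twTensor (P Q A : X.Modules) :
    Nonempty ((tw Q).obj ((tw P).obj A) ≅ CohB1.tensorMod A (CohB1.tensorMod P Q)) :=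
  cl_eq_iff.1 (by
    show PicF.cl (CohB1.tensorMod (CohB1.tensorMod A P) Q) = _
    rw [cl_tensor, cl_tensor, cl_tensor, cl_tensor, mul_assoc])

omit [X.Over (Spec (CommRingCat.of k))] in
theorem iso_twTwist {M N : X.Modules} (hMN : PicF.cl M * PicF.cl N = 1) (A : X.Modules) (j : ℕ) :
    Nonempty ((tw (CohB1.tensorPow M (j + 1))).obj ((tw N).obj A) ≅ (tw (CohB1.tensorPow M j)).obj A) :=
  cl_eq_iff.1 (by
    show PicF.cl (CohB1.tensorMod (CohB1.tensorMod A N) (CohB1.tensorPow M (j + 1))) =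
      PicF.cl (CohB1.tensorMod A (CohB1.tensorPow M j))
    rw [cl_tensor, cl_tensor, cl_tensor, cl_tensorPow, cl_tensorPow, pow_succ', mul_assoc, ← mul_assoc (PicF.cl N),
      mul_comm (PicF.cl N), hMN, one_mul])

omit [X.Over (Spec (CommRingCat.of k))] in
theorem iso_twZero (M A : X.Modules) : Nonempty ((tw (CohB1.tensorPow M 0)).obj A ≅ A) :=
  cl_eq_iff.1 (by
    show PicF.cl (CohB1.tensorMod A (CohB1.tensorPow M 0)) = PicF.cl A
    rw [cl_tensor, cl_tensorPow, pow_zero, mul_one])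

/-- If the cohomology of the kernel vanishes in two degrees, the cohomology of the middle is that of the cokernel. -/
theorem finrank_eq_of_ses {S : ShortComplex X.Modules} (hS : S.ShortExact) (q : ℕ)
    (h₀ : Subsingleton (Coh.HH X S.X₁ q)) (h₁ : Subsingleton (Coh.HH X S.X₁ (q + 1))) :
    Module.finrank k (Coh.HH X S.X₂ q) = Module.finrank k (Coh.HH X S.X₃ q) := by
  have hinj : Function.Injective (mapLin k S.g q) := by
    rw [← LinearMap.ker_eq_bot, CurveCohLib.ker_mapLin_g (A := k) hS q, LinearMap.range_eq_bot]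
    exact LinearMap.ext fun x => by rw [h₀.elim x 0, map_zero, map_zero]
  have hsurj : Function.Surjective (mapLin k S.g q) := by
    rw [← LinearMap.range_eq_top, ← CurveCohLib.ker_deltaLin (A := k) hS q, LinearMap.ker_eq_top]
    exact LinearMap.ext fun x => h₁.elim _ _
  exact (LinearEquiv.ofBijective (mapLin k S.g q) ⟨hinj, hsurj⟩).finrank_eq

omit [X.Over (Spec (CommRingCat.of k))] in
/-- The degree-zero sequence `0 → O_X → O_X ⊗ N → ι_*O_Y ⊗ N → 0`. -/
theorem exists_ses_zero {f : X ⟶ Spec (CommRingCat.of k)} [QuasiSeparated f] [Smooth f] {I : X.IdealSheafData}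
    [QuasiSeparated (I.subschemeι ≫ f)] [Smooth (I.subschemeι ≫ f)] {N : X.Modules} {σ : Γ(N, ⊤)}
    (hN : PicF.IsInvertible N) (hG : Good I σ) {E₀ : X.Modules} {G₀ : I.subscheme.Modules}
    (hE : ExtPow.IsExtPow 0 (Omega.sheaf f) E₀) (hG₀ : ExtPow.IsExtPow 0 (Omega.sheaf (I.subschemeι ≫ f)) G₀) :
    ∃ S : ShortComplex X.Modules, S.ShortExact ∧ S.X₁ = E₀ ∧ S.X₂ = (tw N).obj E₀ ∧
      S.X₃ = (tw N).obj ((Scheme.Modules.pushforward I.subschemeι).obj G₀) := by
  obtain ⟨φE⟩ := exists_ep hE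
  obtain ⟨φG⟩ := exists_ep hG₀
  obtain ⟨r, hr⟩ := exists_restrForms f φE φG
  have hz : mulSec σ E₀ ≫ (tw N).map r = 0 := by
    rw [← AmpleVan.mulSec_naturality, mulSec_push hN hG, comp_zero]
  refine ⟨ShortComplex.mk (mulSec σ E₀) ((tw N).map r) hz, ?_, rfl, rfl, rfl⟩
  haveI : Mono (mulSec σ E₀) := mono_mulSec f hN hG φE
  haveI : Epi ((tw N).map r) := by
    refine RelTildeX.epi_of_locally _ fun W s q hq => ?_
    obtain ⟨F, hqF, hFW⟩ := exists_frm (σ := σ) hN hq
    obtain ⟨hgI, hgr⟩ := hG F.U F.e F.g F.he F.hg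
    obtain ⟨a, ha⟩ := (tmT_bijective (E := (Scheme.Modules.pushforward I.subschemeι).obj G₀) F.he).2
      (AModX.res _ hFW s)
    obtain ⟨z, hz'⟩ := (RF_chart f I hgI hgr 0).1 (φG.φ (pre I F.U) a)
    refine ⟨F.U.1, hFW, hqF, tmT ((φE.φ F.U).symm z) F.e, ?_⟩
    rw [map_tmT, hr, LinearEquiv.apply_symm_apply, hz', LinearEquiv.symm_apply_apply]
    exact ha
  refine { exact := ?_, mono_f := ‹_›, epi_g := ‹_› }
  refine RelTildeX.exact_of_locally _ fun W s hs q hq => ?_
  obtain ⟨F, hqF, hFW⟩ := exists_frm (σ := σ) hN hq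
  obtain ⟨hgI, hgr⟩ := hG F.U F.e F.g F.he F.hg
  obtain ⟨z₁, hz₁⟩ := (tmT_bijective (E := E₀) F.he).2 (AModX.res _ hFW s)
  dsimp only at hz₁
  have h0 : ((tw N).map r).app F.U.1 (AModX.res ((tw N).obj E₀) hFW s) = 0 := by
    rw [AModX.app_res]
    exact (congrArg _ hs).trans (map_zero _)
  rw [← hz₁, map_tmT, hr] at h0
  have h1 := (tmT_bijective (E := (Scheme.Modules.pushforward I.subschemeι).obj G₀) F.he).1
    (h0.trans (tmT_zero F.e).symm)
  have h2 : RF f I 0 F.U (φE.φ F.U z₁) = 0 := (φG.φ (pre I F.U)).symm.map_eq_zero_iff.1 h1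
  -- a form of degree zero restricting to zero is divisible by the equation
  obtain ⟨c, hc⟩ : ∃ c, φE.φ F.U z₁ = F.g • c := by
    obtain ⟨r₀, hr₀⟩ := (exteriorPower.zeroEquiv Γ(X, F.U.1) Γ(Omega.sheaf f, F.U.1)).symm.surjective (φE.φ F.U z₁)
    rw [← hr₀, exteriorPower.zeroEquiv_symm_apply] at h2 ⊢
    rw [RF_smul, RF_ιMulti] at h2
    have h3 := congrArg (exteriorPower.zeroEquiv Γ(I.subscheme, (pre I F.U).1)
      Γ(Omega.sheaf (I.subschemeι ≫ f), (pre I F.U).1)) h2
    rw [map_smul, map_zero, exteriorPower.zeroEquiv_ιMulti, smul_eq_mul, mul_one] at h3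
    have hk : r₀ ∈ Ideal.span {F.g} := by
      rw [← hgI, ← I.ker_subschemeι_app F.U, RingHom.mem_ker]
      exact h3
    obtain ⟨e, rfl⟩ := Ideal.mem_span_singleton'.1 hk
    exact ⟨e • ιMulti _ 0 _, by rw [smul_smul, mul_comm]⟩
  refine ⟨F.U.1, hFW, hqF, (φE.φ F.U).symm c, ?_⟩
  refine (mulSec_frm F _).trans (Eq.trans ?_ hz₁)
  rw [← tmT_smul_left, ← map_smul, ← hc, LinearEquiv.symm_apply_apply]

variable [Smooth (X ↘ Spec (CommRingCat.of k))] [QuasiSeparated (X ↘ Spec (CommRingCat.of k))]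

/-- The Hodge numbers of a hypersurface agree with those of the ambient scheme below the middle dimension when
the negative twists of forms are acyclic there. -/
theorem finrank_eq_of_vanishing (I : X.IdealSheafData)
    [QuasiSeparated (I.subschemeι ≫ (X ↘ Spec (CommRingCat.of k)))]
    [Smooth (I.subschemeι ≫ (X ↘ Spec (CommRingCat.of k)))] {M N : X.Modules} (hM : PicF.IsInvertible M)
    (hN : PicF.IsInvertible N) (hMN : PicF.cl M * PicF.cl N = 1) {σ : Γ(N, ⊤)} (hG : Good I σ) (n : ℕ)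
    (hvan : ∀ j : ℕ, 1 ≤ j → ∀ p q : ℕ, p + q ≤ n → ∀ E : X.Modules,
      ExtPow.IsExtPow p (Omega.sheaf (X ↘ Spec (CommRingCat.of k))) E →
        Subsingleton (Coh.HH X (CohB1.tensorMod E (CohB1.tensorPow M j)) q)) :
    ∀ p q : ℕ, p + q + 1 ≤ n → ∀ (G : I.subscheme.Modules),
      ExtPow.IsExtPow p (Omega.sheaf (I.subschemeι ≫ (X ↘ Spec (CommRingCat.of k)))) G → ∀ E : X.Modules,
      ExtPow.IsExtPow p (Omega.sheaf (X ↘ Spec (CommRingCat.of k))) E →
      Module.finrank k (Coh.HH X ((Scheme.Modules.pushforward I.subschemeι).obj G) q) =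
        Module.finrank k (Coh.HH X E q) := by
  let f := X ↘ Spec (CommRingCat.of k)
  let P : ℕ → X.Modules := fun j => CohB1.tensorPow M j
  have hP : ∀ j, PicF.IsInvertible (P j) := fun j => InvX.isInvertible_tensorPow hM j
  suffices H : ∀ p (G : I.subscheme.Modules), ExtPow.IsExtPow p (Omega.sheaf (I.subschemeι ≫ f)) G →
      ∀ q, p + q + 1 ≤ n →
        (∀ j, 1 ≤ j → Subsingleton (Coh.HH X ((tw (P j)).obj ((Scheme.Modules.pushforward I.subschemeι).obj G)) q)) ∧
        ∀ E : X.Modules, ExtPow.IsExtPow p (Omega.sheaf f) E →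
          Module.finrank k (Coh.HH X ((Scheme.Modules.pushforward I.subschemeι).obj G) q) =
            Module.finrank k (Coh.HH X E q) from
    fun p q hpq G hGp E hE => (H p G hGp q hpq).2 E hE
  -- the cokernels
  have hQ : ∀ (c : ℕ) (E : X.Modules), ExtPow.IsExtPow c (Omega.sheaf f) E → ∀ q, c + q + 1 ≤ n →
      (∀ j, 2 ≤ j → Subsingleton (Coh.HH X ((tw (P j)).obj (cokernel (mulSec σ E))) q)) ∧
      Module.finrank k (Coh.HH X ((tw (P 1)).obj (cokernel (mulSec σ E))) q) = Module.finrank k (Coh.HH X E q) := by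
    intro c E hE q hq
    refine ⟨fun j hj => ?_, ?_⟩
    · obtain ⟨i, rfl⟩ := Nat.exists_eq_add_of_le' hj
      refine PnCoh.Finite.subsingleton_HH_X₃ (shortExact_tw (hP (i + 2)) (shortExact_mulSec f hN hG hE)) q ?_
        (hvan (i + 2) (by omega) c (q + 1) (by omega) E hE)
      obtain ⟨ψ⟩ := iso_twTwist hMN E (i + 1)
      exact QCoh.subsingleton_HH_of_iso ψ.symm _ (hvan (i + 1) (by omega) c q (by omega) E hE)
    · refine (finrank_eq_of_ses (k := k) (shortExact_tw (hP 1) (shortExact_mulSec f hN hG hE)) q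
        (hvan 1 le_rfl c q (by omega) E hE) (hvan 1 le_rfl c (q + 1) (by omega) E hE)).symm.trans ?_
      obtain ⟨ψ⟩ := iso_twTwist hMN E 0
      obtain ⟨ψ'⟩ := iso_twZero M E
      exact (CurveCohLib.hhEquiv (k := k) (ψ ≪≫ ψ') q).finrank_eq
  intro p
  induction p with
  | zero =>
    intro G hGp q hq
    obtain ⟨E₀, hE₀⟩ := exists_extPow_omega f 0
    refine ⟨fun j hj => ?_, fun E hE => ?_⟩
    · obtain ⟨S, hS, h1, h2, h3⟩ := exists_ses_zero hN hG hE₀ hGp
      have h := PnCoh.Finite.subsingleton_HH_X₃ (shortExact_tw (hP (j + 1)) hS) q ?_ ?_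
      · change Subsingleton (Coh.HH X ((tw (P (j + 1))).obj S.X₃) q) at h
        rw [h3] at h
        obtain ⟨ψ⟩ := iso_twTwist hMN ((Scheme.Modules.pushforward I.subschemeι).obj G) j
        exact QCoh.subsingleton_HH_of_iso ψ _ h
      · show Subsingleton (Coh.HH X ((tw (P (j + 1))).obj S.X₂) q)
        rw [h2]
        obtain ⟨ψ⟩ := iso_twTwist hMN E₀ j
        exact QCoh.subsingleton_HH_of_iso ψ.symm _ (hvan j hj 0 q (by omega) E₀ hE₀)
      · show Subsingleton (Coh.HH X ((tw (P (j + 1))).obj S.X₁) (q + 1))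
        rw [h1]
        exact hvan (j + 1) (by omega) 0 (q + 1) (by omega) E₀ hE₀
    · obtain ⟨S, hS, h1, h2, h3⟩ := exists_ses_zero hN hG hE hGp
      have h := finrank_eq_of_ses (k := k) (shortExact_tw (hP 1) hS) q ?_ ?_
      · change Module.finrank k (Coh.HH X ((tw (P 1)).obj S.X₂) q) =
          Module.finrank k (Coh.HH X ((tw (P 1)).obj S.X₃) q) at h
        rw [h2, h3] at h
        obtain ⟨ψ⟩ := iso_twTwist hMN ((Scheme.Modules.pushforward I.subschemeι).obj G) 0
        obtain ⟨ψ'⟩ := iso_twZero M ((Scheme.Modules.pushforward I.subschemeι).obj G)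
        obtain ⟨χ⟩ := iso_twTwist hMN E 0
        obtain ⟨χ'⟩ := iso_twZero M E
        rw [← (CurveCohLib.hhEquiv (k := k) (ψ ≪≫ ψ') q).finrank_eq, ← (CurveCohLib.hhEquiv (k := k) (χ ≪≫ χ') q).finrank_eq]
        exact h.symm
      · show Subsingleton (Coh.HH X ((tw (P 1)).obj S.X₁) q)
        rw [h1]
        exact hvan 1 le_rfl 0 q (by omega) E hE
      · show Subsingleton (Coh.HH X ((tw (P 1)).obj S.X₁) (q + 1))
        rw [h1]
        exact hvan 1 le_rfl 0 (q + 1) (by omega) E hE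
  | succ p ih =>
    intro G hGp q hq
    obtain ⟨G', hG'⟩ := exists_extPow_omega (I.subschemeι ≫ f) p
    refine ⟨fun j hj => ?_, fun E hE => ?_⟩
    · obtain ⟨E₁, hE₁⟩ := exists_extPow_omega f (p + 1)
      obtain ⟨S, hS, h1, h2, h3⟩ := exists_ses_of_extPow f hN hG hE₁ hG' hGp
      have h := PnCoh.Finite.subsingleton_HH_X₃ (shortExact_tw (hP (j + 1)) hS) q ?_ ?_
      · change Subsingleton (Coh.HH X ((tw (P (j + 1))).obj S.X₃) q) at h
        rw [h3] at h
        obtain ⟨ψ⟩ := iso_twTwist hMN ((Scheme.Modules.pushforward I.subschemeι).obj G) j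
        exact QCoh.subsingleton_HH_of_iso ψ _ h
      · show Subsingleton (Coh.HH X ((tw (P (j + 1))).obj S.X₂) q)
        rw [h2]
        exact (hQ (p + 1) E₁ hE₁ q (by omega)).1 (j + 1) (by omega)
      · show Subsingleton (Coh.HH X ((tw (P (j + 1))).obj S.X₁) (q + 1))
        rw [h1]
        exact (ih G' hG' (q + 1) (by omega)).1 (j + 1) (by omega)
    · obtain ⟨S, hS, h1, h2, h3⟩ := exists_ses_of_extPow f hN hG hE hG' hGp
      have h := finrank_eq_of_ses (k := k) (shortExact_tw (hP 1) hS) q ?_ ?_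
      · change Module.finrank k (Coh.HH X ((tw (P 1)).obj S.X₂) q) =
          Module.finrank k (Coh.HH X ((tw (P 1)).obj S.X₃) q) at h
        rw [h2, h3, (hQ (p + 1) E hE q (by omega)).2] at h
        obtain ⟨ψ⟩ := iso_twTwist hMN ((Scheme.Modules.pushforward I.subschemeι).obj G) 0
        obtain ⟨ψ'⟩ := iso_twZero M ((Scheme.Modules.pushforward I.subschemeι).obj G)
        rw [← (CurveCohLib.hhEquiv (k := k) (ψ ≪≫ ψ') q).finrank_eq]
        exact h.symm
      · show Subsingleton (Coh.HH X ((tw (P 1)).obj S.X₁) q)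
        rw [h1]
        exact (ih G' hG' q (by omega)).1 1 le_rfl
      · show Subsingleton (Coh.HH X ((tw (P 1)).obj S.X₁) (q + 1))
        rw [h1]
        exact (ih G' hG' (q + 1) (by omega)).1 1 le_rfl

omit [X.Over (Spec (CommRingCat.of k))] [Smooth (X ↘ Spec (CommRingCat.of k))]
  [QuasiSeparated (X ↘ Spec (CommRingCat.of k))] in
/-- An ideal sheaf inverse to an invertible module is cut out by a section of it. -/
theorem exists_good {N : X.Modules} (hN : PicF.IsInvertible N) {I : X.IdealSheafData}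
    (hI : ClSub.IsInverseOf (ClSub.idealMod I) N) : ∃ σ : Γ(N, ⊤), Good I σ := by
  classical
  have hMi : PicF.IsInvertible (ClSub.idealMod I) :=
    VarDepth.isInvertible_inverse hN (cl_eq_iff.1 (by rw [cl_tensor, mul_comm, ← cl_tensor]; exact cl_eq_iff.2 hI))
  obtain ⟨θ⟩ := hI
  obtain ⟨ψ⟩ : Nonempty ((tw N).obj (Coh.structureModule X) ≅ N) := cl_eq_iff.1 (by
    show PicF.cl (CohB1.tensorMod (Coh.structureModule X) N) = PicF.cl N
    rw [cl_tensor, ← one_def, one_mul])
  let s : Coh.structureModule X ⟶ N := θ.inv ≫ (tw N).map (ClSub.idealModι I) ≫ ψ.hom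
  haveI : Mono s := by
    haveI := AmpleVan.isEquivalence_tw hN
    haveI : Mono (ClSub.idealModι I) := inferInstanceAs (Mono (kernel.ι _))
    haveI : Mono ((tw N).map (ClSub.idealModι I)) := Functor.map_mono _ _
    exact mono_comp θ.inv ((tw N).map (ClSub.idealModι I) ≫ ψ.hom)
  have hloc : ∀ p : X, ∃ V : X.affineOpens, p ∈ V.1 ∧ (PicF2.zeroScheme N s).ideal V = I.ideal V := by
    intro p
    obtain ⟨U, hpU, fM, e, hfM, he⟩ := exists_frame₂ hMi hN p
    obtain ⟨V, hV, hpV, hVU⟩ := exists_isAffineOpen_mem_and_subset (x := p) (U := U) hpU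
    let V' : X.affineOpens := ⟨V, hV⟩
    have hVU' : V ≤ U := hVU
    let φ := AModX.res _ hVU' fM
    let ε := AModX.res _ hVU' e
    have hφ : IsFrame φ := hfM.res hVU'
    have hε : IsFrame ε := he.res hVU'
    let h : Γ(X, V) := OmegaSh.idealSect I V φ
    have hIV : I.ideal V' = Ideal.span {h} := by
      refine le_antisymm (fun x hx => ?_) ((Ideal.span_singleton_le_iff_mem _).2 (OmegaLib.idealSect_mem I V' φ))
      obtain ⟨z, hz⟩ := OmegaLib.exists_of_mem I V' x hx
      obtain ⟨r, hr⟩ := hφ.exists_coord le_rfl z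
      rw [AModX.res_self] at hr
      rw [← hz, hr, OmegaLib.idealSect_smul]
      exact Ideal.mem_span_singleton'.2 ⟨r, rfl⟩
    let u : Γ(Coh.structureModule X, V) := θ.hom.app V (tmul φ ε)
    have hu : IsUnit (show Γ(X, V) from u) := by
      obtain ⟨r, hr⟩ := (isFrame_tmul hφ hε).exists_coord le_rfl (θ.inv.app V (show Γ(X, V) from 1))
      rw [AModX.res_self] at hr
      refine IsUnit.of_mul_eq_one_right r ?_
      have := congrArg (θ.hom.app V) hr
      rw [Scheme.Modules.Hom.app_smul] at this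
      exact this.symm.trans (congr(($(θ.inv_hom_id)).app V (show Γ(X, V) from 1)))
    obtain ⟨w, hw⟩ := hu
    let ε' : Γ(N, V) := ψ.hom.app V (tmul (show Γ(Coh.structureModule X, V) from (1 : Γ(X, V))) ε)
    have hε' : IsFrame ε' := IsFrame.map_iso ψ (isFrame_tmul (isFrame_one V) hε)
    have hsv : ZeroSchX.sv s V = ((↑w⁻¹ : Γ(X, V)) * h) • ε' := by
      have h1 : θ.inv.app V (show Γ(X, V) from 1) = (↑w⁻¹ : Γ(X, V)) • tmul φ ε := by
        have h2 := congr(($(θ.hom_inv_id)).app V (tmul φ ε))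
        have h3 : (show Γ(X, V) from u) • (θ.inv.app V (show Γ(X, V) from 1)) = tmul φ ε := by
          refine Eq.trans ?_ h2
          refine (Scheme.Modules.Hom.app_smul θ.inv _ _).symm.trans (congrArg (θ.inv.app V) ?_)
          exact mul_one (show Γ(X, V) from u)
        rw [← h3, smul_smul, ← hw, Units.inv_mul, one_smul]
      have h4 : (ClSub.idealModι I).app V φ = h • (show Γ(Coh.structureModule X, V) from (1 : Γ(X, V))) :=
        (mul_one h).symm
      show ψ.hom.app V (((tw N).map (ClSub.idealModι I)).app V (θ.inv.app V _)) = _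
      rw [show θ.inv.app V (show Γ(X, V) from 1) = _ from h1]
      refine (congrArg (ψ.hom.app V) (Scheme.Modules.Hom.app_smul ((tw N).map (ClSub.idealModι I)) _ _)).trans ?_
      rw [Scheme.Modules.Hom.app_smul, show ((tw N).map (ClSub.idealModι I)).app V (tmul φ ε) = _ from
        AmpleVan.map_tmul_left _ φ ε, h4, tmul_smul_left, mul_smul]
      exact congrArg _ (Scheme.Modules.Hom.app_smul ψ.hom h _)
    refine ⟨V', hpV, ?_⟩
    rw [ZeroSchX.ideal_zeroScheme hN, ZeroSchX.zeroIdealOn_eq_span s hε' hsv, hIV,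
      Ideal.span_singleton_mul_left_unit (Units.isUnit _)]
  choose V hpV hV using hloc
  have heq : PicF2.zeroScheme N s = I :=
    Scheme.IdealSheafData.ext_of_iSup_eq_top V (top_le_iff.1 fun p _ => Opens.mem_iSup.2 ⟨p, hpV p⟩) hV
  exact ⟨InvX.one s, heq ▸ good_zeroScheme hN s⟩

end Groth.Agent.H44Adj
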