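import Groth.Agent.H44Adj.Sequence
import Groth.Agent.H44Hyper.SmoothVanish
import Groth.Agent.AmpleVan.Uniform
import Groth.Agent.QCoh.HHExact
import Groth.Agent.Lib.Euler
import Groth.Agent.Lib.CurveVanish
import Groth.Agent.PnCoh.Finite.SerreVanishing

/-! # The sequences on the whole scheme, and vanishing for hypersurfaces of large degree -/

universe u

open CategoryTheory CategoryTheory.Limits AlgebraicGeometry TopologicalSpace Opposite exteriorPower

attribute [local instance] HasDerivedCategory.standard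

set_option linter.style.haveILetI false
set_option backward.isDefEq.respectTransparency false
set_option backward.isDefEq.respectTransparency.types false

namespace Groth.Agent.H44Adj

open Groth.Agent.AModX Groth.Agent.InvX
open Groth.Agent.AmpleVan (tw mulSec)

variable {k : Type u} [Field k] {X : Scheme.{u}} (f : X ⟶ Spec (CommRingCat.of k))

/-- Small affine opens on which the differentials of a smooth scheme over a field are free. -/
theorem exists_omega_free [Smooth f] [QuasiSeparated f] (W : X.Opens) (x : X) (hx : x ∈ W) :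
    ∃ (V : X.affineOpens) (d : ℕ), x ∈ V.1 ∧ V.1 ≤ W ∧
      Nonempty (Module.Basis (Fin d) Γ(X, V.1) Γ(Omega.sheaf f, V.1)) := by
  obtain ⟨U, hU, V₀, hV₀, hxV₀, e₀, hstd⟩ := Smooth.exists_isStandardSmooth f x
  obtain ⟨g, hgW, hxg⟩ := hV₀.exists_basicOpen_le ⟨x, hx⟩ hxV₀
  have hUt : U = ⊤ := by
    refine top_unique fun y _ => ?_
    haveI : Subsingleton (Spec (CommRingCat.of k)) := inferInstanceAs (Subsingleton (PrimeSpectrum k))
    exact (Subsingleton.elim (f x) y) ▸ e₀ hxV₀
  subst hUt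
  let V : X.affineOpens := ⟨X.basicOpen g, hV₀.basicOpen g⟩
  have e : V.1 ≤ f ⁻¹ᵁ ⊤ := le_top
  let φ := (f.appLE ⊤ V.1 e).hom
  have hφ : φ.IsStandardSmooth := by
    letI := (X.presheaf.map (homOfLE (X.basicOpen_le g)).op).hom.toAlgebra
    haveI : IsLocalization.Away g Γ(X, X.basicOpen g) := hV₀.isLocalization_basicOpen g
    have h := RingHom.isStandardSmooth_stableUnderCompositionWithLocalizationAway.right
      (T := Γ(X, X.basicOpen g)) g _ hstd
    convert! h using 1
    exact congrArg CommRingCat.Hom.hom (Scheme.Hom.appLE_map f e₀ (homOfLE (X.basicOpen_le g)).op).symm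
  letI alg := φ.toAlgebra
  haveI : Algebra.IsStandardSmooth Γ(Spec (CommRingCat.of k), ⊤) Γ(X, V.1) := hφ
  haveI : Nontrivial Γ(X, V.1) := by
    haveI : Nonempty V.1 := ⟨⟨x, hxg⟩⟩
    haveI : Nonempty V.1.toScheme := ⟨⟨x, hxg⟩⟩
    infer_instance
  obtain ⟨ι, σ, _, _, ⟨P⟩⟩ := Algebra.IsStandardSmooth.out (R := Γ(Spec (CommRingCat.of k), ⊤)) (S := Γ(X, V.1))
  haveI : Algebra.IsStandardSmoothOfRelativeDimension P.dimension Γ(Spec (CommRingCat.of k), ⊤) Γ(X, V.1) :=
    ⟨ι, σ, inferInstance, inferInstance, P, rfl⟩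
  have hr : Module.finrank Γ(X, V.1) (Ω[Γ(X, V.1)⁄Γ(Spec (CommRingCat.of k), ⊤)]) = P.dimension :=
    Module.finrank_eq_of_rank_eq (Algebra.IsStandardSmoothOfRelativeDimension.rank_kaehlerDifferential _)
  obtain ⟨E⟩ := Synt29.OmegaStalk.exists_linearEquiv_sections (OmegaUniv.isUniversal_dOmega f) (hV₀.basicOpen g)
    (isAffineOpen_top _) e
  exact ⟨V, P.dimension, hxg, hgW, ⟨(Module.finBasisOfFinrankEq _ _ hr).map E.symm⟩⟩

theorem exists_extPow_omega [QuasiSeparated f] (c : ℕ) :
    ∃ E : X.Modules, ExtPow.IsExtPow c (Omega.sheaf f) E :=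
  exists_isExtPow (Omega.sheaf f) c (OmegaUniv.isQCoh_omega f)

theorem isCoh_extPow_omega [QuasiSeparated f] [LocallyOfFiniteType f] [IsLocallyNoetherian X] {c : ℕ}
    {E : X.Modules} (hE : ExtPow.IsExtPow c (Omega.sheaf f) E) : Coh.IsCoh E := by
  obtain ⟨φ⟩ := exists_ep hE
  refine QCoh.isCoh_iff.2 ⟨isQCoh_ep (OmegaUniv.isQCoh_omega f) hE, fun U => ?_⟩
  haveI : Module.Finite Γ(X, U.1) Γ(Omega.sheaf f, U.1) :=
    QCoh.finite_of_isFT (OmegaUniv.isQCoh_omega f) (OmegaUniv.isFT_omega f) U.2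
  exact Module.Finite.equiv (φ.φ U).symm

variable {I : X.IdealSheafData} {M : X.Modules} {σ : Γ(M, ⊤)}

theorem mono_mulSec [Smooth f] [QuasiSeparated f] (hM : PicF.IsInvertible M) (hG : Good I σ) {c : ℕ}
    {E : X.Modules} (φE : EP c (Omega.sheaf f) E) : Mono (mulSec σ E) := by
  refine QCoh.mono_of_app_injective _ fun W => ?_
  rw [injective_iff_map_eq_zero]
  intro t ht
  refine AModX.eq_of_locally _ _ fun p hp => ?_
  obtain ⟨F, hpF, hFW⟩ := exists_frm (σ := σ) hM hp
  obtain ⟨V, d, hpV, hVF, ⟨b⟩⟩ := exists_omega_free f F.U.1 p hpF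
  let F' := F.restrict V hVF
  refine ⟨V.1, hVF.trans hFW, hpV, ?_⟩
  have h := (congrArg (res ((tw M).obj E) (hVF.trans hFW)) ht).trans (map_zero _)
  rw [← AModX.app_res] at h
  replace h := (tmT_smul_left F'.g _ F'.e).trans ((mulSec_frm F' _).symm.trans h)
  have h1 := (tmT_bijective (E := E) F'.he).1 (h.trans (tmT_zero F'.e).symm)
  let bas := (b.exteriorPower c).map (φE.φ V).symm
  have hreg : IsSMulRegular Γ(E, V.1) (show Γ(X, V.1) from F'.g) := fun u v huv => by
    refine bas.repr.injective (Finsupp.ext fun i => (hG V F'.e F'.g F'.he F'.hg).2 ?_)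
    have := congrArg (fun z => bas.repr z i) huv
    simp only [map_smul, Finsupp.smul_apply] at this
    exact this
  rw [map_zero]
  exact hreg (h1.trans (smul_zero F'.g).symm)

/-- The sequence `0 → Ω^c_X → Ω^c_X ⊗ M → Ω^c_X ⊗ M / σ → 0`. -/
theorem shortExact_mulSec [Smooth f] [QuasiSeparated f] (hM : PicF.IsInvertible M) (hG : Good I σ) {c : ℕ}
    {E : X.Modules} (hE : ExtPow.IsExtPow c (Omega.sheaf f) E) :
    (ShortComplex.mk (mulSec σ E) (cokernel.π (mulSec σ E)) (cokernel.condition _)).ShortExact := by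
  obtain ⟨φE⟩ := exists_ep hE
  exact { exact := ShortComplex.exact_cokernel _, mono_f := mono_mulSec f hM hG φE, epi_g := inferInstance }

/-- The sequence of a hypersurface, from the existence of exterior powers. -/
theorem exists_ses_of_extPow [QuasiSeparated f] [QuasiSeparated (I.subschemeι ≫ f)] [Smooth (I.subschemeι ≫ f)]
    (hM : PicF.IsInvertible M) (hG : Good I σ) {c : ℕ} {E₁ : X.Modules} {G G₁ : I.subscheme.Modules}
    (hE₁ : ExtPow.IsExtPow (c + 1) (Omega.sheaf f) E₁)
    (hG₀ : ExtPow.IsExtPow c (Omega.sheaf (I.subschemeι ≫ f)) G)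
    (hG₁ : ExtPow.IsExtPow (c + 1) (Omega.sheaf (I.subschemeι ≫ f)) G₁) :
    ∃ S : ShortComplex X.Modules, S.ShortExact ∧
      S.X₁ = (Scheme.Modules.pushforward I.subschemeι).obj G ∧ S.X₂ = cokernel (mulSec σ E₁) ∧
      S.X₃ = (tw M).obj ((Scheme.Modules.pushforward I.subschemeι).obj G₁) := by
  obtain ⟨E, hE⟩ := exists_extPow_omega f c
  obtain ⟨φE⟩ := exists_ep hE
  obtain ⟨φE₁⟩ := exists_ep hE₁
  obtain ⟨φG⟩ := exists_ep hG₀
  obtain ⟨φG₁⟩ := exists_ep hG₁
  exact exists_ses f φE₁ hM hG φE φG φG₁ (isQCoh_ep (OmegaUniv.isQCoh_omega f) hE₁)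

theorem shortExact_tw {P : X.Modules} (hP : PicF.IsInvertible P) {S : ShortComplex X.Modules} (hS : S.ShortExact) :
    haveI := AmpleVan.isEquivalence_tw hP
    (S.map (tw P)).ShortExact :=
  haveI := AmpleVan.isEquivalence_tw hP
  hS.map_of_exact _

/-- A regular section cuts out its zero scheme by regular equations. -/
theorem good_zeroScheme {L : X.Modules} (hL : PicF.IsInvertible L) (s : Coh.structureModule X ⟶ L) [Mono s] :
    Good (PicF2.zeroScheme L s) (InvX.one s) := by
  intro U e g he hg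
  have hsv : ZeroSchX.sv s U.1 = g • e := (ZeroSchX.res_sv s (le_top : U.1 ≤ ⊤)).symm.trans hg
  refine ⟨?_, ?_⟩
  · rw [ZeroSchX.ideal_zeroScheme hL, ZeroSchX.zeroIdealOn_eq_span s he hsv]
  · intro a b hab
    refine QCoh.app_injective s U.1 ?_
    have h : ∀ r : Γ(X, U.1), s.app U.1 r = r • ZeroSchX.sv s U.1 := fun r =>
      (congrArg (s.app U.1) (mul_one r).symm).trans
        (Scheme.Modules.Hom.app_smul s r (show Γ(Coh.structureModule X, U.1) from (1 : Γ(X, U.1))))
    rw [h, h, hsv, smul_smul, smul_smul, mul_comm a, mul_comm b]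
    exact congrArg (· • e) hab

open H23.PicMul in
/-- Vanishing for hypersurfaces of large degree. -/
theorem exists_vanishing_hyper [X.Over (Spec (CommRingCat.of k))] [IsProper (X ↘ Spec (CommRingCat.of k))]
    [Smooth (X ↘ Spec (CommRingCat.of k))] (n : ℕ) (hn : topologicalKrullDim X ≤ n) {L : X.Modules}
    (hL : CohB1.IsAmple L) :
    ∃ m₀ : ℕ, ∀ m, m₀ ≤ m → ∀ (I : X.IdealSheafData) (σ : Γ(CohB1.tensorPow L m, ⊤))
      [Smooth (I.subschemeι ≫ (X ↘ Spec (CommRingCat.of k)))] (_ : Good I σ) (a b j : ℕ) (G : I.subscheme.Modules),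
      ExtPow.IsExtPow b (Omega.sheaf (I.subschemeι ≫ (X ↘ Spec (CommRingCat.of k)))) G → 1 ≤ j → n ≤ a + b →
      Subsingleton (Coh.HH X
        ((tw (CohB1.tensorPow L (j * m))).obj ((Scheme.Modules.pushforward I.subschemeι).obj G)) a) := by
  classical
  let f := X ↘ Spec (CommRingCat.of k)
  haveI : IsLocallyNoetherian X := LocallyOfFiniteType.isLocallyNoetherian f
  choose E hE using fun c => exists_extPow_omega f c
  choose d hd using fun c => AmpleVan.exists_vanishing (A := k) hL (isCoh_extPow_omega f (hE c))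
  refine ⟨(Finset.range (n + 1)).sup d, fun m hm I σ _ hG => ?_⟩
  haveI : QuasiSeparated (I.subschemeι ≫ f) := inferInstance
  have hMi : PicF.IsInvertible (CohB1.tensorPow L m) := InvX.isInvertible_tensorPow hL.1 m
  have hEz : ∀ c, n < c → ∀ (W : X.Opens) (s : Γ(E c, W)), s = 0 := by
    intro c hc W s
    obtain ⟨φ⟩ := exists_ep (hE c)
    refine AModX.eq_of_locally _ _ fun x hx => ?_
    obtain ⟨V, r, hxV, hVW, hr, ⟨b⟩⟩ := H44Hyper.exists_omega_basis f n hn (OmegaUniv.isUniversal_dOmega f) W x hx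
    haveI : IsEmpty (Set.powersetCard (Fin r) c) := ⟨fun t => by
      have h1 := t.2
      have h2 := Finset.card_le_univ t.1
      rw [Fintype.card_fin] at h2
      simp only [Set.powersetCard.mem_iff] at h1
      omega⟩
    haveI : Subsingleton (⋀[Γ(X, V.1)]^c Γ(Omega.sheaf f, V.1)) := (b.exteriorPower c).repr.toEquiv.subsingleton
    haveI : Subsingleton Γ(E c, V.1) := (φ.φ V).toEquiv.subsingleton
    exact ⟨V.1, hVW, hxV, Subsingleton.elim _ _⟩
  have hzQ : ∀ c, n < c → IsZero (cokernel (mulSec σ (E c))) := fun c hc => by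
    have hEc : IsZero (E c) := RelTildeX.isZero_of_locally _ fun _ =>
      ⟨⊤, trivial, fun W _ => subsingleton_of_forall_eq 0 (hEz c hc W)⟩
    haveI := AmpleVan.isEquivalence_tw hMi
    exact IsZero.of_epi (cokernel.π _) ((tw (CohB1.tensorPow L m)).map_isZero hEc)
  -- vanishing of the cohomology of the twisted cokernels
  have hQ : ∀ (c q j : ℕ), 1 ≤ j →
      Subsingleton (Coh.HH X ((tw (CohB1.tensorPow L (j * m))).obj (cokernel (mulSec σ (E c)))) (q + 1)) := by
    intro c q j hj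
    have hP : PicF.IsInvertible (CohB1.tensorPow L (j * m)) := InvX.isInvertible_tensorPow hL.1 _
    haveI := AmpleVan.isEquivalence_tw hP
    rcases lt_or_ge n c with hc | hc
    · exact Euler.subsingleton_HH_of_isZero ((tw _).map_isZero (hzQ c hc)) _
    · have hS := shortExact_tw hP (shortExact_mulSec f hMi hG (hE c))
      have hle : d c ≤ j * m := ((Finset.le_sup (Finset.mem_range.2 (by omega))).trans hm).trans
        (Nat.le_mul_of_pos_left m hj)
      refine PnCoh.Finite.subsingleton_HH_X₃ hS (q + 1) ?_ (hd c (j * m) hle (q + 1))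
      obtain ⟨ψ⟩ : Nonempty (CohB1.tensorMod (E c) (CohB1.tensorPow L (j * m + m)) ≅
          (tw (CohB1.tensorPow L (j * m))).obj ((tw (CohB1.tensorPow L m)).obj (E c))) := cl_eq_iff.1 (by
        show _ = PicF.cl (CohB1.tensorMod (CohB1.tensorMod (E c) (CohB1.tensorPow L m)) (CohB1.tensorPow L (j * m)))
        rw [cl_tensor, cl_tensor, cl_tensor, cl_tensorPow, cl_tensorPow, cl_tensorPow, mul_assoc, ← pow_add,
          add_comm (j * m)])
      exact QCoh.subsingleton_HH_of_iso ψ _ (hd c (j * m + m) (hle.trans (Nat.le_add_right _ _)) q)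
  intro a
  induction a with
  | zero =>
    intro b j G hGb hj hab
    obtain ⟨G₁, hG₁⟩ := exists_extPow_omega (I.subschemeι ≫ f) (b + 1)
    obtain ⟨S, hS, h1, h2, h3⟩ := exists_ses_of_extPow f hMi hG (hE (b + 1)) hGb hG₁
    have hz2 : IsZero S.X₂ := h2 ▸ hzQ (b + 1) (by omega)
    haveI := hS.mono_f
    have hz1 : IsZero S.X₁ := IsZero.of_mono S.f hz2
    haveI := AmpleVan.isEquivalence_tw (InvX.isInvertible_tensorPow hL.1 (j * m))
    exact Euler.subsingleton_HH_of_isZero ((tw _).map_isZero (h1 ▸ hz1)) _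
  | succ a ih =>
    intro b j G hGb hj hab
    obtain ⟨G₁, hG₁⟩ := exists_extPow_omega (I.subschemeι ≫ f) (b + 1)
    obtain ⟨S, hS, h1, h2, h3⟩ := exists_ses_of_extPow f hMi hG (hE (b + 1)) hGb hG₁
    have hS' := shortExact_tw (InvX.isInvertible_tensorPow hL.1 (j * m)) hS
    have h := CurveVanish.subsingleton_HH_X₁ hS' a ?_ ?_
    · exact h1 ▸ h
    · show Subsingleton (Coh.HH X ((tw (CohB1.tensorPow L (j * m))).obj S.X₂) (a + 1))
      rw [h2]
      exact hQ (b + 1) a j hj
    · show Subsingleton (Coh.HH X ((tw (CohB1.tensorPow L (j * m))).obj S.X₃) a)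
      rw [h3]
      obtain ⟨ψ⟩ : Nonempty ((tw (CohB1.tensorPow L ((j + 1) * m))).obj
          ((Scheme.Modules.pushforward I.subschemeι).obj G₁) ≅ (tw (CohB1.tensorPow L (j * m))).obj
          ((tw (CohB1.tensorPow L m)).obj ((Scheme.Modules.pushforward I.subschemeι).obj G₁))) := cl_eq_iff.1 (by
        show PicF.cl (CohB1.tensorMod _ (CohB1.tensorPow L ((j + 1) * m))) =
          PicF.cl (CohB1.tensorMod (CohB1.tensorMod _ (CohB1.tensorPow L m)) (CohB1.tensorPow L (j * m)))
        rw [cl_tensor, cl_tensor, cl_tensor, cl_tensorPow, cl_tensorPow, cl_tensorPow, mul_assoc, ← pow_add,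
          add_mul, one_mul, add_comm m])
      exact QCoh.subsingleton_HH_of_iso ψ _ (ih (b + 1) (j + 1) G₁ hG₁ (by omega) (by omega))

end Groth.Agent.H44Adj
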