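import Groth.Agent.H44Adj.Forms
import Groth.Agent.H44Adj.Twist
import Groth.Agent.ExistEasy.TwoIdeal
import Groth.Agent.LimitsH94.GlueHom
import Groth.Agent.RelTildeX.SheafCrit
import Groth.Agent.OmegaUniv.Unram
import Groth.Agent.ZeroSchX.Basic

/-! # The exact sequences of forms along a hypersurface -/

universe u

open CategoryTheory CategoryTheory.Limits AlgebraicGeometry TopologicalSpace Opposite exteriorPower

set_option linter.style.haveILetI false
set_option backward.isDefEq.respectTransparency false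
set_option backward.isDefEq.respectTransparency.types false

namespace Groth.Agent.H44Adj

open Groth.Agent.AModX Groth.Agent.InvX
open Groth.Agent.AmpleVan (tw mulSec mulSec_app map_tmul_left)

variable {X : Scheme.{u}} (I : X.IdealSheafData) {M : X.Modules} (σ : Γ(M, ⊤))

/-- `σ` cuts out `I` by regular equations. -/
def Good : Prop := ∀ (U : X.affineOpens) (e : Γ(M, U.1)) (g : Γ(X, U.1)), IsFrame e →
  AModX.res M (le_top : U.1 ≤ ⊤) σ = g • e → I.ideal U = Ideal.span {g} ∧ IsSMulRegular Γ(X, U.1) g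

/-- A framed affine open. -/
structure Frm : Type u where
  /-- The open. -/
  U : X.affineOpens
  /-- The frame. -/
  e : Γ(M, U.1)
  he : IsFrame e
  /-- The equation. -/
  g : Γ(X, U.1)
  hg : AModX.res M (le_top : U.1 ≤ ⊤) σ = g • e

variable {I σ}

/-- A smaller framed affine open. -/
noncomputable def Frm.restrict (F : Frm σ) (V : X.affineOpens) (h : V.1 ≤ F.U.1) : Frm σ where
  U := V
  e := AModX.res M h F.e
  he := F.he.res h
  g := resR h F.g
  hg := by rw [← AModX.res_smul, ← F.hg, AModX.res_res]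

theorem exists_frm (hM : PicF.IsInvertible M) {W : X.Opens} {x : X} (hx : x ∈ W) :
    ∃ F : Frm σ, x ∈ F.U.1 ∧ F.U.1 ≤ W := by
  obtain ⟨W₀, hx₀, e₀, he₀⟩ := exists_frame hM x
  obtain ⟨V, hV, hxV, hle⟩ := exists_isAffineOpen_mem_and_subset (x := x) (U := W ⊓ W₀) ⟨hx, hx₀⟩
  have hV0 : V ≤ W₀ := fun y hy => (hle hy).2
  obtain ⟨g, hg⟩ := (he₀.res hV0).exists_coord le_rfl (AModX.res M (le_top : V ≤ ⊤) σ)
  rw [AModX.res_self] at hg
  exact ⟨⟨⟨V, hV⟩, _, he₀.res hV0, g, hg⟩, hxV, fun y hy => (hle hy).1⟩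

/-- The tensor of two sections, in the twist. -/
noncomputable def tmT {E : X.Modules} {U : X.Opens} (a : Γ(E, U)) (b : Γ(M, U)) : Γ((tw M).obj E, U) := tmul a b

section tmT

variable {E E' : X.Modules} {U V : X.Opens}

theorem tmT_add (a a' : Γ(E, U)) (b : Γ(M, U)) : tmT (a + a') b = tmT a b + tmT a' b :=
  AmpleVan.tmul_add_left a a' b

theorem tmT_zero (b : Γ(M, U)) : tmT (0 : Γ(E, U)) b = 0 := AmpleVan.tmul_zero_left b

theorem tmT_smul_left (r : Γ(X, U)) (a : Γ(E, U)) (b : Γ(M, U)) : tmT (r • a) b = r • tmT a b :=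
  tmul_smul_left r a b

theorem tmT_smul_right (r : Γ(X, U)) (a : Γ(E, U)) (b : Γ(M, U)) : tmT a (r • b) = r • tmT a b :=
  tmul_smul_right r a b

theorem res_tmT (h : V ≤ U) (a : Γ(E, U)) (b : Γ(M, U)) :
    res ((tw M).obj E) h (tmT a b) = tmT (res E h a) (res M h b) := res_tmul h a b

theorem map_tmT (φ : E ⟶ E') (a : Γ(E, U)) (b : Γ(M, U)) :
    ((tw M).map φ).app U (tmT a b) = tmT (φ.app U a) b := map_tmul_left φ a b

theorem tmT_bijective {e : Γ(M, U)} (he : IsFrame e) : Function.Bijective fun a : Γ(E, U) => tmT a e :=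
  tmul_frame_bijective he

end tmT

theorem mulSec_frm (F : Frm σ) {E : X.Modules} (t : Γ(E, F.U.1)) :
    (mulSec σ E).app F.U.1 t = F.g • tmT t F.e := by
  rw [mulSec_app, F.hg]
  exact tmul_smul_right _ _ _

theorem app_g_eq_zero (hG : Good I σ) (F : Frm σ) : I.subschemeι.app F.U.1 F.g = 0 := by
  have h : F.g ∈ RingHom.ker (I.subschemeι.app F.U.1).hom := by
    rw [I.ker_subschemeι_app, (hG F.U F.e F.g F.he F.hg).1]
    exact Ideal.mem_span_singleton_self _
  exact h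

theorem mulSec_push (hM : PicF.IsInvertible M) (hG : Good I σ) (G : I.subscheme.Modules) :
    mulSec σ ((Scheme.Modules.pushforward I.subschemeι).obj G) = 0 := by
  refine QCoh.hom_ext_app fun W t => ?_
  refine AModX.eq_of_locally _ _ fun p hp => ?_
  obtain ⟨F, hpF, hFW⟩ := exists_frm (σ := σ) hM hp
  refine ⟨F.U.1, hFW, hpF, ?_⟩
  rw [← AModX.app_res, mulSec_frm, ← tmT_smul_left]
  have : F.g • AModX.res ((Scheme.Modules.pushforward I.subschemeι).obj G) hFW t = 0 := by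
    show I.subschemeι.app F.U.1 F.g • (show Γ(G, I.subschemeι ⁻¹ᵁ F.U.1) from _) = 0
    rw [app_g_eq_zero hG F, zero_smul]
  rw [this, tmT_zero]
  exact (map_zero _).symm

variable {k : Type u} [Field k] (f : X ⟶ Spec (CommRingCat.of k)) [QuasiSeparated f]
  [QuasiSeparated (I.subschemeι ≫ f)] {c : ℕ} {E E₁ : X.Modules} {G G₁ : I.subscheme.Modules}

/-- Restriction of forms to the subscheme as a morphism. -/
theorem exists_restrForms (φE : EP c (Omega.sheaf f) E) (φG : EP c (Omega.sheaf (I.subschemeι ≫ f)) G) :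
    ∃ r : E ⟶ (Scheme.Modules.pushforward I.subschemeι).obj G, ∀ (U : X.affineOpens) (z : Γ(E, U.1)),
      r.app U.1 z = (φG.φ (pre I U)).symm (RF f I c U (φE.φ U z)) := by
  obtain ⟨r, hr⟩ := LimitsH94.GlueHom.exists_hom_of_basis (M := E)
    (N := (Scheme.Modules.pushforward I.subschemeι).obj G) (fun _ => True) (fun _ _ _ h => h)
    (fun x => by
      obtain ⟨V, hV, hx, -⟩ := exists_isAffineOpen_mem_and_subset (x := x) (U := ⊤) trivial
      exact ⟨⟨V, hV⟩, trivial, hx⟩)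
    (fun U _ => { toFun := fun z => (φG.φ (pre I U)).symm (RF f I c U (φE.φ U z))
                  map_add' := fun a b => by rw [map_add, map_add, map_add]
                  map_smul' := fun a b => by rw [map_smul, RF_smul, map_smul, RingHom.id_apply]; rfl })
    (fun U W _ _ h z => by
      show res G (pre_mono I h) ((φG.φ (pre I U)).symm (RF f I c U (φE.φ U z))) =
        (φG.φ (pre I W)).symm (RF f I c W (φE.φ W (res E h z)))
      rw [φG.res_symm (pre I U) (pre I W) (pre_mono I h), RF_rMap h]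
      congr 2
      refine (φE.φ W).symm.injective ?_
      rw [← φE.res_symm U W h, LinearEquiv.symm_apply_apply, LinearEquiv.symm_apply_apply])
  exact ⟨r, fun U z => hr U trivial z⟩

/-- `(v ∧ x) ⊗ e` modulo `σ`. -/
noncomputable def lmap (φE₁ : EP (c + 1) (Omega.sheaf f) E₁) (F : Frm σ) :
    FX f c F.U →+ Γ(cokernel (mulSec σ E₁), F.U.1) where
  toFun x := (cokernel.π (mulSec σ E₁)).app F.U.1
    (tmT ((φE₁.φ F.U).symm (wedgeL ((OmegaSh.dOmega f).app F.U.1 F.g) c x)) F.e)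
  map_zero' := by rw [map_zero, map_zero, tmT_zero, map_zero]
  map_add' x y := by rw [map_add, map_add, tmT_add, map_add]

variable (φE₁ : EP (c + 1) (Omega.sheaf f) E₁)

theorem π_mulSec (E : X.Modules) (U : X.Opens) (t : Γ(E, U)) :
    (cokernel.π (mulSec σ E)).app U ((mulSec σ E).app U t) = 0 :=
  congr(($(cokernel.condition (mulSec σ E))).app U t)

/-- Changing the frame does not matter. -/
theorem lmap_res (F F' : Frm σ) (h : F'.U.1 ≤ F.U.1) (x : FX f c F.U) :
    res (cokernel (mulSec σ E₁)) h (lmap f φE₁ F x) = lmap f φE₁ F' (rMap _ c h x) := by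
  obtain ⟨v, hv⟩ := F'.he.exists_coord le_rfl (AModX.res M h F.e)
  obtain ⟨w, hw⟩ := (F.he.res h).exists_coord le_rfl F'.e
  rw [AModX.res_self] at hv hw
  have hwv : v * w = 1 := by
    refine F.he.coord_unique h ?_
    rw [one_smul, mul_smul]
    exact (congrArg (v • ·) hw.symm).trans hv.symm
  have hg : F'.g = resR h F.g * v := by
    refine F'.he.coord_unique le_rfl ?_
    rw [AModX.res_self, ← F'.hg, mul_smul, ← hv, ← AModX.res_smul, ← F.hg, AModX.res_res]
  have hd : (OmegaSh.dOmega f).app F'.U.1 F'.g =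
      v • res (Omega.sheaf f) h ((OmegaSh.dOmega f).app F.U.1 F.g) +
        resR h F.g • (OmegaSh.dOmega f).app F'.U.1 v := by
    rw [hg, Synt29.OmegaStalk.app_mul, add_comm]
    congr 2
    exact Synt29.OmegaStalk.app_res _ _ (homOfLE h) F.g
  show res _ h ((cokernel.π (mulSec σ E₁)).app F.U.1 _) = (cokernel.π (mulSec σ E₁)).app F'.U.1 _
  rw [← AModX.app_res, res_tmT, φE₁.res_symm F.U F'.U h, rMap_wedgeL, hv, tmT_smul_right]
  have hz : wedgeL ((OmegaSh.dOmega f).app F'.U.1 F'.g) c (rMap _ c h x) =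
      v • wedgeL (res (Omega.sheaf f) h ((OmegaSh.dOmega f).app F.U.1 F.g)) c (rMap _ c h x) +
        resR h F.g • wedgeL ((OmegaSh.dOmega f).app F'.U.1 v) c (rMap _ c h x) := by
    rw [hd]
    apply Subtype.ext
    simp only [Submodule.coe_add, Submodule.coe_smul, coe_wedgeL, map_add, map_smul, add_mul, smul_mul_assoc]
  rw [hz, map_add (φE₁.φ F'.U).symm, tmT_add, map_smul (φE₁.φ F'.U).symm, map_smul (φE₁.φ F'.U).symm, tmT_smul_left,
    tmT_smul_left, map_add, Scheme.Modules.Hom.app_smul (cokernel.π (mulSec σ E₁)) v]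
  refine (left_eq_add.2 ?_)
  have hgw : resR h F.g = w * F'.g := by rw [hg, ← mul_assoc, mul_comm w, mul_assoc, mul_comm w, hwv, mul_one]
  rw [hgw, mul_smul, ← mulSec_frm F', ← Scheme.Modules.Hom.app_smul (mulSec σ E₁), π_mulSec]

variable [Smooth (I.subschemeι ≫ f)]

theorem lmap_eq_zero (hG : Good I σ) (F : Frm σ) (x : FX f c F.U) (hx : RF f I c F.U x = 0) :
    lmap f φE₁ F x = 0 := by
  obtain ⟨hgI, hgr⟩ := hG F.U F.e F.g F.he F.hg
  obtain ⟨w, hw⟩ := ((RF_chart f I hgI hgr c).2.2 x).2 hx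
  show (cokernel.π (mulSec σ E₁)).app F.U.1 _ = 0
  rw [hw, map_smul, tmT_smul_left, ← mulSec_frm F, π_mulSec]

include φE₁ in
set_option maxHeartbeats 1600000 in
/-- The exact sequence `0 → Ω^c_Y → Ω^{c+1}_X ⊗ M / σ → Ω^{c+1}_Y ⊗ M → 0`. -/
theorem exists_ses (hM : PicF.IsInvertible M) (hG : Good I σ) (φE : EP c (Omega.sheaf f) E)
    (φG : EP c (Omega.sheaf (I.subschemeι ≫ f)) G) (φG₁ : EP (c + 1) (Omega.sheaf (I.subschemeι ≫ f)) G₁)
    (hE₁ : Coh.IsQCoh E₁) :
    ∃ S : ShortComplex X.Modules, S.ShortExact ∧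
      S.X₁ = (Scheme.Modules.pushforward I.subschemeι).obj G ∧ S.X₂ = cokernel (mulSec σ E₁) ∧
      S.X₃ = (tw M).obj ((Scheme.Modules.pushforward I.subschemeι).obj G₁) := by
  classical
  let p : X.affineOpens → Prop := fun U => ∃ F : Frm σ, F.U = U
  have hsurj : ∀ F : Frm σ, Function.Surjective (RF f I c F.U) := fun F =>
    let ⟨a, b⟩ := hG F.U F.e F.g F.he F.hg
    (RF_chart f I a b c).1
  let sec : ∀ F : Frm σ, FY f I c F.U → FX f c F.U := fun F => Function.surjInv (hsurj F)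
  have hsec : ∀ F y, RF f I c F.U (sec F y) = y := fun F => Function.surjInv_eq (hsurj F)
  have hindep : ∀ (F : Frm σ) (x x' : FX f c F.U), RF f I c F.U x = RF f I c F.U x' →
      lmap f φE₁ F x = lmap f φE₁ F x' := fun F x x' hxx => by
    rw [← sub_eq_zero, ← map_sub]
    exact lmap_eq_zero f φE₁ hG F _ (by rw [map_sub, hxx, sub_self])
  let m : ∀ F : Frm σ, Γ((Scheme.Modules.pushforward I.subschemeι).obj G, F.U.1) →ₗ[Γ(X, F.U.1)]
      Γ(cokernel (mulSec σ E₁), F.U.1) := fun F =>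
    { toFun := fun y => lmap f φE₁ F (sec F (φG.φ (pre I F.U) y))
      map_add' := fun y y' => by
        rw [← map_add]
        refine hindep F _ _ ?_
        rw [map_add (RF f I c F.U), hsec, hsec, hsec]
        exact map_add (φG.φ (pre I F.U)) y y'
      map_smul' := fun a y => by
        have hl : ∀ z, lmap f φE₁ F (a • z) = a • lmap f φE₁ F z := fun z => by
          show (cokernel.π (mulSec σ E₁)).app F.U.1 _ = a • (cokernel.π (mulSec σ E₁)).app F.U.1 _
          rw [map_smul, map_smul, tmT_smul_left, Scheme.Modules.Hom.app_smul]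
        rw [RingHom.id_apply, ← hl]
        refine hindep F _ _ ?_
        rw [RF_smul, hsec, hsec]
        exact (φG.φ (pre I F.U)).map_smul (I.subschemeι.app F.U.1 a) y }
  have hm : ∀ (F : Frm σ) (x : FX f c F.U), m F ((φG.φ (pre I F.U)).symm (RF f I c F.U x)) = lmap f φE₁ F x :=
    fun F x => hindep F _ _ (by rw [hsec]; exact LinearEquiv.apply_symm_apply _ _)
  have hmres : ∀ (F F' : Frm σ) (h : F'.U.1 ≤ F.U.1) (y : Γ((Scheme.Modules.pushforward I.subschemeι).obj G, F.U.1)),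
      res (cokernel (mulSec σ E₁)) h (m F y) = m F' (res ((Scheme.Modules.pushforward I.subschemeι).obj G) h y) := by
    intro F F' h y
    obtain ⟨x, hx⟩ := hsurj F (φG.φ (pre I F.U) y)
    have hy : y = (φG.φ (pre I F.U)).symm (RF f I c F.U x) := by
      rw [hx]; exact (LinearEquiv.symm_apply_apply _ _).symm
    have h2 : res ((Scheme.Modules.pushforward I.subschemeι).obj G) h y =
        (φG.φ (pre I F'.U)).symm (RF f I c F'.U (rMap _ c h x)) := by
      rw [← RF_rMap h, ← φG.res_symm (pre I F.U) (pre I F'.U) (pre_mono I h), hy]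
      rfl
    rw [h2, hm, hy, hm, lmap_res]
  have hchoose : ∀ (U : X.affineOpens), p U → ∃ l : Γ((Scheme.Modules.pushforward I.subschemeι).obj G, U.1) →ₗ[Γ(X, U.1)]
      Γ(cokernel (mulSec σ E₁), U.1), ∀ (F : Frm σ) (h : F.U.1 ≤ U.1) y,
        res (cokernel (mulSec σ E₁)) h (l y) = m F (res ((Scheme.Modules.pushforward I.subschemeι).obj G) h y) := by
    rintro U ⟨F, rfl⟩
    exact ⟨m F, fun F' h y => hmres F F' h y⟩
  choose μ₀ hμ₀ using hchoose
  obtain ⟨μ, hμ⟩ := LimitsH94.GlueHom.exists_hom_of_basis p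
    (fun U W h ⟨F, hF⟩ => by subst hF; exact ⟨F.restrict W h, rfl⟩)
    (fun x => by obtain ⟨F, hx, -⟩ := exists_frm (σ := σ) hM (W := ⊤) (x := x) trivial; exact ⟨F.U, ⟨F, rfl⟩, hx⟩)
    μ₀ (fun U W hu hw h s => by
      obtain ⟨F, rfl⟩ := hw
      refine (hμ₀ U hu F h s).trans ?_
      have := hμ₀ F.U ⟨F, rfl⟩ F le_rfl (res ((Scheme.Modules.pushforward I.subschemeι).obj G) h s)
      rw [AModX.res_self, AModX.res_self] at this
      exact this.symm)
  have hμF : ∀ (F : Frm σ) (x : FX f c F.U),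
      μ.app F.U.1 ((φG.φ (pre I F.U)).symm (RF f I c F.U x)) = lmap f φE₁ F x := fun F x => by
    rw [hμ F.U ⟨F, rfl⟩]
    have := hμ₀ F.U ⟨F, rfl⟩ F le_rfl ((φG.φ (pre I F.U)).symm (RF f I c F.U x))
    rw [AModX.res_self, AModX.res_self] at this
    rw [this, hm]
  -- the projection
  obtain ⟨r₁, hr₁⟩ := exists_restrForms f φE₁ φG₁
  have hz : mulSec σ E₁ ≫ (tw M).map r₁ = 0 := by
    rw [← AmpleVan.mulSec_naturality, mulSec_push hM hG, comp_zero]
  let π' := cokernel.desc (mulSec σ E₁) ((tw M).map r₁) hz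
  have hπ' : ∀ (F : Frm σ) (z : FX f (c + 1) F.U),
      π'.app F.U.1 ((cokernel.π (mulSec σ E₁)).app F.U.1 (tmT ((φE₁.φ F.U).symm z) F.e)) =
        tmT (show Γ((Scheme.Modules.pushforward I.subschemeι).obj G₁, F.U.1) from
          (φG₁.φ (pre I F.U)).symm (RF f I (c + 1) F.U z)) F.e := fun F z => by
    refine (congr(($(cokernel.π_desc (mulSec σ E₁) ((tw M).map r₁) hz)).app F.U.1
      (tmT ((φE₁.φ F.U).symm z) F.e))).trans ?_
    rw [map_tmT, hr₁, LinearEquiv.apply_symm_apply]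
  have hrv : ∀ (F : Frm σ) (x : FX f c F.U),
      RF f I (c + 1) F.U (wedgeL ((OmegaSh.dOmega f).app F.U.1 F.g) c x) = 0 := fun F x => by
    obtain ⟨a, b⟩ := hG F.U F.e F.g F.he F.hg
    exact ((RF_chart f I a b c).2.1 _).2 ⟨0, x, by rw [smul_zero, zero_add]⟩
  have hzero : μ ≫ π' = 0 := by
    refine QCoh.hom_ext_app fun W t => AModX.eq_of_locally _ _ fun q hq => ?_
    obtain ⟨F, hqF, hFW⟩ := exists_frm (σ := σ) hM hq
    refine ⟨F.U.1, hFW, hqF, ?_⟩
    obtain ⟨x, hx⟩ := hsurj F (φG.φ (pre I F.U) (res ((Scheme.Modules.pushforward I.subschemeι).obj G) hFW t))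
    show res _ hFW (π'.app W (μ.app W t)) = res _ hFW 0
    rw [map_zero, ← AModX.app_res, ← AModX.app_res,
      ← (φG.φ (pre I F.U)).symm_apply_apply (res ((Scheme.Modules.pushforward I.subschemeι).obj G) hFW t)]
    rw [← hx, hμF]
    refine (hπ' F _).trans ?_
    rw [hrv]
    exact (congrArg (tmT · F.e) (map_zero (φG₁.φ (pre I F.U)).symm)).trans (tmT_zero _)
  refine ⟨ShortComplex.mk μ π' hzero, ?_, rfl, rfl, rfl⟩
  haveI : Mono μ := by
    refine QCoh.mono_of_app_injective μ fun W => ?_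
    rw [injective_iff_map_eq_zero]
    intro t ht
    refine AModX.eq_of_locally _ _ fun q hq => ?_
    obtain ⟨F, hqF, hFW⟩ := exists_frm (σ := σ) hM hq
    refine ⟨F.U.1, hFW, hqF, ?_⟩
    obtain ⟨hgI, hgr⟩ := hG F.U F.e F.g F.he F.hg
    obtain ⟨x, hx⟩ := hsurj F (φG.φ (pre I F.U) (res ((Scheme.Modules.pushforward I.subschemeι).obj G) hFW t))
    have h0 : μ.app F.U.1 (res ((Scheme.Modules.pushforward I.subschemeι).obj G) hFW t) = 0 := by
      rw [AModX.app_res, ht, map_zero]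
    rw [← (φG.φ (pre I F.U)).symm_apply_apply (res ((Scheme.Modules.pushforward I.subschemeι).obj G) hFW t),
      ← hx, hμF] at h0
    obtain ⟨z, hz'⟩ := ExistEasy.exists_app_of_cokernel hE₁
      (KFlatLib.isQCoh_tensor hE₁ (ZeroSchX.isQCoh_inv hM)) (mulSec σ E₁) F.U.2 _ h0
    replace hz' := ((tmT_smul_left F.g z F.e).trans (mulSec_frm F z).symm).trans hz'
    have h1 := (tmT_bijective F.he).1 hz'
    have hR : RF f I c F.U x = 0 := by
      refine ((RF_chart f I hgI hgr c).2.2 x).1 ⟨φE₁.φ F.U z, ?_⟩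
      rw [← map_smul, h1, LinearEquiv.apply_symm_apply]
    rw [map_zero, ← (φG.φ (pre I F.U)).map_eq_zero_iff]
    exact hx.symm.trans hR
  haveI : Epi π' := by
    refine RelTildeX.epi_of_locally π' fun W s q hq => ?_
    obtain ⟨F, hqF, hFW⟩ := exists_frm (σ := σ) hM hq
    obtain ⟨hgI, hgr⟩ := hG F.U F.e F.g F.he F.hg
    obtain ⟨a, ha⟩ := (tmT_bijective (E := (Scheme.Modules.pushforward I.subschemeι).obj G₁) F.he).2
      (res _ hFW s)
    obtain ⟨z, hz'⟩ := (RF_chart f I hgI hgr (c + 1)).1 (φG₁.φ (pre I F.U) a)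
    refine ⟨F.U.1, hFW, hqF, (cokernel.π (mulSec σ E₁)).app F.U.1 (tmT ((φE₁.φ F.U).symm z) F.e), ?_⟩
    rw [hπ', hz', LinearEquiv.symm_apply_apply]
    exact ha
  refine { exact := ?_, mono_f := ‹_›, epi_g := ‹_› }
  refine RelTildeX.exact_of_locally _ fun W s hs q hq => ?_
  obtain ⟨F, hqF, hFW⟩ := exists_frm (σ := σ) hM hq
  obtain ⟨hgI, hgr⟩ := hG F.U F.e F.g F.he F.hg
  obtain ⟨z₀, hz₀⟩ := QCoh.app_surjective_of_epi (KFlatLib.isQCoh_tensor hE₁ (ZeroSchX.isQCoh_inv hM))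
    (QCoh.isQCoh_cokernel hE₁ (KFlatLib.isQCoh_tensor hE₁ (ZeroSchX.isQCoh_inv hM)) _)
    (cokernel.π (mulSec σ E₁)) F.U.2 (res _ hFW s)
  obtain ⟨z₁, rfl⟩ := (tmT_bijective (E := E₁) F.he).2 z₀
  have h0 : π'.app F.U.1 (res (cokernel (mulSec σ E₁)) hFW s) = 0 := by
    rw [AModX.app_res]
    exact (congrArg _ hs).trans (map_zero _)
  dsimp only at hz₀
  rw [← hz₀, show z₁ = (φE₁.φ F.U).symm (φE₁.φ F.U z₁) from (LinearEquiv.symm_apply_apply _ _).symm] at h0
  replace h0 := (hπ' F (φE₁.φ F.U z₁)).symm.trans h0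
  have h1 := (tmT_bijective (E := (Scheme.Modules.pushforward I.subschemeι).obj G₁) F.he).1
    (h0.trans (tmT_zero F.e).symm)
  have h2 : RF f I (c + 1) F.U (φE₁.φ F.U z₁) = 0 := (φG₁.φ (pre I F.U)).symm.map_eq_zero_iff.1 h1
  obtain ⟨y, x, hyx⟩ := ((RF_chart f I hgI hgr c).2.1 _).1 h2
  refine ⟨F.U.1, hFW, hqF, (φG.φ (pre I F.U)).symm (RF f I c F.U x), ?_⟩
  refine (hμF F x).trans (Eq.trans ?_ hz₀)
  conv_rhs => rw [show z₁ = (φE₁.φ F.U).symm (φE₁.φ F.U z₁) from (LinearEquiv.symm_apply_apply _ _).symm]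
  rw [hyx, map_add, tmT_add, map_add, map_smul, tmT_smul_left, ← mulSec_frm F]
  refine Eq.trans ?_ (congrArg (· + _) (π_mulSec E₁ F.U.1 _)).symm
  exact (zero_add _).symm

end Groth.Agent.H44Adj
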